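import Cfsg.Agent.OddHalf.D3.ThreeEnd
import Cfsg.Agent.Transfer.TausskyTwoGroup

/-!
# ODD D3 (b), `n = 2`, case (B2) (bb ODD 9609): the abstract configuration

`L a i` (`a i : Bool`): the two members of the class `a`; `T`: maximal 2-subgroup normalising the four members;
`g a i ∈ L a i` normalises `T`.
-/

set_option autoImplicit false

namespace Cfsg.Agent.OddHalf.D3.BTwo

open Cfsg.Agent.OddHalf.D3.ThreeDefs Cfsg.Agent.OddHalf.D3.ThreeFam Cfsg.Agent.OddHalf.D3.ThreeMain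
  Cfsg.Agent.OddHalf.D3.ThreeEnd
open scoped commutatorElement

universe u

variable {G : Type u} [Group G]

/-- The configuration (B2). -/
structure BD (L : Bool → Bool → Subgroup G) (T : Subgroup G) (g : Bool → Bool → G) : Prop where
  comm : ∀ a i i', i ≠ i' → ∀ x ∈ L a i, ∀ y ∈ L a i', x * y = y * x
  inj : ∀ a i b k, L a i = L b k → a = b ∧ i = k
  fus : ∀ a i b k x y, x ∈ L a i → x * x = 1 → x ≠ 1 → y * x * y⁻¹ ∈ L b k →
    cj y (L a i) = L b k ∧ ∀ i' k', i ≠ i' → k ≠ k' → cj y (L a i') = L b k'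
  zst : ∀ a i, ∀ z ∈ L a i, z * z = 1 → z ≠ 1 →
    ∃ l ∈ L a i, l * z * l⁻¹ ≠ z ∧ z * (l * z * l⁻¹) = (l * z * l⁻¹) * z
  two : IsPGroup 2 T
  nrm : ∀ t ∈ T, ∀ a i, cj t (L a i) = L a i
  max : ∀ Q : Subgroup G, IsPGroup 2 Q → T ≤ Q → (∀ q ∈ Q, ∀ a i, cj q (L a i) = L a i) → Q ≤ T
  ne : ∃ a i, ∃ x ∈ T, x ∈ L a i ∧ x ≠ 1
  gm : ∀ a i, g a i ∈ L a i
  gT : ∀ a i, cj (g a i) T = T
  gn : ∀ a i, g a i ∉ T
  gs : ∀ a i, g a i * g a i ∈ T
  sw : ∀ a b, a ≠ b → ∀ k k', k ≠ k' → ∀ i i', i ≠ i' → cj (g b k * g b k') (L a i) = L a i'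

/-- the elements normalising all four members -/
def NL (L : Bool → Bool → Subgroup G) : Subgroup G where
  carrier := {x | ∀ a i, cj x (L a i) = L a i}
  one_mem' := fun a i => cj_one _
  mul_mem' := by
    intro x y hx hy a i
    exact cj_mul_eq (hx a i) (hy a i)
  inv_mem' := by
    intro x hx a i
    exact cj_inv_eq (hx a i)

theorem mem_NL {L : Bool → Bool → Subgroup G} {x : G} : x ∈ NL L ↔ ∀ a i, cj x (L a i) = L a i := Iff.rfl

theorem bool_third {i k j : Bool} (h1 : i ≠ k) (h2 : i ≠ j) : k = j := by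
  revert i k j; decide

/-- `⁅d, x⁆ ∈ M` if `d ∈ M` and `x` normalises `M` -/
theorem comm_mem {M : Subgroup G} {d x : G} (hd : d ∈ M) (hx : cj x M = M) : ⁅d, x⁆ ∈ M := by
  rw [commutatorElement_def]
  have : d * x * d⁻¹ * x⁻¹ = d * (x * d⁻¹ * x⁻¹) := by group
  rw [this]
  exact mul_mem hd (conj_mem_of_cj hx (inv_mem hd))

/-- `⁅x, d⁆ ∈ M` if `d ∈ M` and `x` normalises `M` -/
theorem comm_mem' {M : Subgroup G} {d x : G} (hd : d ∈ M) (hx : cj x M = M) : ⁅x, d⁆ ∈ M := by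
  rw [commutatorElement_def]
  exact mul_mem (conj_mem_of_cj hx hd) (inv_mem hd)

theorem conj_eq_comm_mul (d x : G) : d * x * d⁻¹ = ⁅d, x⁆ * x := by
  rw [commutatorElement_def]; group

theorem comm_eq_one {d x : G} (h : ⁅d, x⁆ = 1) : d * x = x * d := by
  rw [commutatorElement_def] at h
  calc d * x = (d * x * d⁻¹ * x⁻¹) * (x * d) := by group
    _ = _ := by rw [h, one_mul]

theorem comm_one_of {d x : G} (h : d * x = x * d) : ⁅d, x⁆ = 1 := by
  rw [commutatorElement_def, h]; group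

/-- adjoining an element normalising `T`, with square in `T` -/
theorem exists_two [Finite G] {T : Subgroup G} (hT : IsPGroup 2 T) {d : G} (hdT : cj d T = T) (hd2 : d * d ∈ T) :
    ∃ S : Subgroup G, IsPGroup 2 S ∧ T ≤ S ∧ d ∈ S := by
  have hW : IsPGroup 2 (Subgroup.zpowers d) := by
    intro x
    obtain ⟨k, hk⟩ := hT ⟨d * d, hd2⟩
    have hk' : (d * d) ^ 2 ^ k = 1 := congrArg Subtype.val hk
    refine ⟨k + 1, Subtype.ext ?_⟩
    obtain ⟨m, hm⟩ := Subgroup.mem_zpowers_iff.mp x.2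
    push_cast
    rw [← hm]
    have h1 : d ^ 2 ^ (k + 1) = 1 := by
      rw [pow_succ', pow_mul, pow_two]; exact hk'
    rw [← zpow_natCast, ← zpow_mul, mul_comm, zpow_mul, zpow_natCast, h1, one_zpow]
  have hWT : ∀ w ∈ Subgroup.zpowers d, cj w T = T := by
    intro w hw
    have : Subgroup.zpowers d ≤ Subgroup.normalizer (T : Set G) := by
      rw [Subgroup.zpowers_le]
      exact mem_normalizer_of_cj hdT
    exact cj_of_mem_normalizer (this hw)
  refine ⟨mulSub T (Subgroup.zpowers d) hWT, isPGroup_mulSub hT hW, le_mulSub_left, ?_⟩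
  exact le_mulSub_right (Subgroup.mem_zpowers d)

/-- a fixed involution of `d` in a 2-group -/
theorem exists_fix [Finite G] {S P : Subgroup G} (hS : IsPGroup 2 S) {d : G} (hd : d ∈ S) (hPS : P ≤ S)
    (hdP : ∀ x ∈ P, d * x * d⁻¹ ∈ P) (hne : ∃ x ∈ P, x ≠ 1) : ∃ x ∈ P, x * x = 1 ∧ x ≠ 1 ∧ d * x = x * d := by
  haveI : Fact (Nat.Prime 2) := ⟨Nat.prime_two⟩
  have hcj : cj d P = P := by
    refine Subgroup.eq_of_le_of_card_ge ?_ (card_cj d P).ge
    intro x hx
    rw [mem_cj] at hx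
    have := hdP _ hx
    have e : d * (d⁻¹ * x * d) * d⁻¹ = x := by group
    rwa [e] at this
  have hWP : ∀ w ∈ Subgroup.zpowers d, cj w P = P := by
    intro w hw
    have : Subgroup.zpowers d ≤ Subgroup.normalizer (P : Set G) := by
      rw [Subgroup.zpowers_le]
      exact mem_normalizer_of_cj hcj
    exact cj_of_mem_normalizer (this hw)
  let Y := mulSub P (Subgroup.zpowers d) hWP
  have hYS : Y ≤ S := mulSub_le hPS (by rw [Subgroup.zpowers_le]; exact hd)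
  have hY : IsPGroup 2 Y := hS.to_le hYS
  have hPY : P ≤ Y := le_mulSub_left
  have hYn : ∀ y ∈ Y, cj y P = P := by
    rintro _ ⟨p, hp, w, hw, rfl⟩
    exact cj_mul_eq (cj_eq_of_mem hp) (hWP w hw)
  haveI : (P.subgroupOf Y).Normal := by
    refine ⟨fun n hn y => ?_⟩
    rw [Subgroup.mem_subgroupOf] at hn ⊢
    exact conj_mem_of_cj (hYn y y.2) hn
  obtain ⟨z, hz, hzc, hz1⟩ := Transfer.TausskyTwoGroup.exists_ne_one_mem_inf_center (p := 2) hY (P.subgroupOf Y) (by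
    intro h
    obtain ⟨x, hx, hx1⟩ := hne
    apply hx1
    have : (⟨x, hPY hx⟩ : Y) ∈ P.subgroupOf Y := hx
    rw [h, Subgroup.mem_bot] at this
    exact congrArg Subtype.val this)
  have hzP : (z : G) ∈ P := hz
  have hz1' : (z : G) ≠ 1 := fun h => hz1 (Subtype.ext h)
  have hdz : Commute d (z : G) := by
    have h1 := Subgroup.mem_center_iff.mp hzc ⟨d, le_mulSub_right (Subgroup.mem_zpowers d)⟩
    exact congrArg Subtype.val h1
  obtain ⟨n, hn2, hn1⟩ := exists_pow_inv hY (hPY hzP) hz1'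
  exact ⟨(z : G) ^ n, pow_mem hzP n, hn2, hn1, (hdz.pow_right n).eq⟩

namespace BD

variable {L : Bool → Bool → Subgroup G} {T : Subgroup G} {g : Bool → Bool → G}

theorem fus2 (h : BD L T g) {S : Subgroup G} (hS : IsPGroup 2 S) {a i b k : Bool} {x y : G} (hxS : x ∈ S)
    (hx : x ∈ L a i) (hx1 : x ≠ 1) (hy : y * x * y⁻¹ ∈ L b k) :
    cj y (L a i) = L b k ∧ ∀ i' k', i ≠ i' → k ≠ k' → cj y (L a i') = L b k' := by
  obtain ⟨n, hn2, hn1⟩ := exists_pow_inv hS hxS hx1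
  refine h.fus a i b k (x ^ n) y (pow_mem hx n) hn2 hn1 ?_
  rw [← conj_pow]
  exact pow_mem hy n

theorem cen2 (h : BD L T g) {S : Subgroup G} (hS : IsPGroup 2 S) {a i : Bool} {x y : G} (hxS : x ∈ S)
    (hx : x ∈ L a i) (hx1 : x ≠ 1) (hy : y * x = x * y) (i' : Bool) : cj y (L a i') = L a i' := by
  have h1 : y * x * y⁻¹ ∈ L a i := by rw [hy]; simpa using hx
  obtain ⟨h2, h3⟩ := h.fus2 hS hxS hx hx1 h1
  by_cases hi : i = i'
  · subst hi; exact h2
  · exact h3 i' i' hi hi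

theorem dis2 (h : BD L T g) {S : Subgroup G} (hS : IsPGroup 2 S) {a i b k : Bool} {x : G} (hxS : x ∈ S)
    (hx : x ∈ L a i) (hx' : x ∈ L b k) (hne : ¬ (a = b ∧ i = k)) : x = 1 := by
  by_contra hx1
  have h1 := (h.fus2 (b := b) (k := k) hS hxS hx hx1 (y := 1) (by simpa using hx')).1
  rw [cj_one] at h1
  exact hne (h.inj a i b k h1)

/-- members of one class normalise each other -/
theorem cj_same (h : BD L T g) {a i : Bool} {d : G} (hd : d ∈ L a i) (i' : Bool) : cj d (L a i') = L a i' := by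
  by_cases hi : i = i'
  · subst hi; exact cj_eq_of_mem hd
  · exact cj_eq_of_comm (h.comm a i i' hi d hd)

theorem T_le (h : BD L T g) : T ≤ NL L := fun t ht a i => h.nrm t ht a i

theorem mem_T (h : BD L T g) {S : Subgroup G} (hS : IsPGroup 2 S) (hTS : T ≤ S) {d : G} (hd : d ∈ S) (hd' : d ∈ NL L) :
    d ∈ T :=
  h.max (S ⊓ NL L) (hS.to_le inf_le_left) (le_inf hTS h.T_le) (fun q hq => hq.2) ⟨hd, hd'⟩

/-- an element of `L a i` in a 2-group over `T`, which normalises one class `b ≠ a`, is in `T` -/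
theorem mem_T_of_cj (h : BD L T g) {S : Subgroup G} (hS : IsPGroup 2 S) (hTS : T ≤ S) {a b i : Bool} (hab : a ≠ b)
    {d : G} (hd : d ∈ S) (hdL : d ∈ L a i) (hd' : ∀ k, cj d (L b k) = L b k) : d ∈ T := by
  refine h.mem_T hS hTS hd ?_
  intro c k
  by_cases hc : a = c
  · subst hc; exact h.cj_same hdL k
  · have : b = c := bool_third hab hc
    subst this; exact hd' k

/-- an element of `L a i` in a 2-group over `T`, commuting with `1 ≠ x ∈ T ∩ L b k` is in `T` -/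
theorem mem_T_of_comm (h : BD L T g) {S : Subgroup G} (hS : IsPGroup 2 S) (hTS : T ≤ S) {a b i k : Bool} (hab : a ≠ b)
    {d x : G} (hd : d ∈ S) (hdL : d ∈ L a i) (hx : x ∈ T) (hxL : x ∈ L b k) (hx1 : x ≠ 1) (hdx : d * x = x * d) :
    d ∈ T :=
  h.mem_T_of_cj hS hTS hab hd hdL (h.cen2 h.two hx hxL hx1 hdx)

variable [Finite G]

theorem exS (h : BD L T g) (a i : Bool) : ∃ S : Subgroup G, IsPGroup 2 S ∧ T ≤ S ∧ g a i ∈ S :=
  exists_two h.two (h.gT a i) (h.gs a i)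

theorem g_conj (h : BD L T g) (a i : Bool) {x : G} (hx : x ∈ T) : g a i * x * (g a i)⁻¹ ∈ T :=
  conj_mem_of_cj (h.gT a i) hx

theorem g_not (h : BD L T g) {a b i : Bool} (hab : a ≠ b) : ¬ ∀ k, cj (g a i) (L b k) = L b k := by
  intro h1
  obtain ⟨S, hS, hTS, hgS⟩ := h.exS a i
  exact h.gn a i (h.mem_T_of_cj hS hTS hab hgS (h.gm a i) h1)

/-- `P`'s of different classes commute -/
theorem comm_ne (h : BD L T g) {a b i k : Bool} (hab : a ≠ b) {x y : G} (hx : x ∈ T) (hxL : x ∈ L a i) (hy : y ∈ T)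
    (hyL : y ∈ L b k) : x * y = y * x := by
  apply comm_eq_one
  refine h.dis2 h.two (a := a) (i := i) (b := b) (k := k) ?_ (comm_mem hxL (h.nrm y hy a i))
    (comm_mem' hyL (h.nrm x hx b k)) (fun h1 => hab h1.1)
  rw [commutatorElement_def]
  exact mul_mem (mul_mem (mul_mem hx hy) (inv_mem hx)) (inv_mem hy)

theorem comm_P (h : BD L T g) {a i : Bool} {x y : G} (hx : x ∈ T) (hxL : x ∈ L a i) (hy : y ∈ T)
    (hyL : y ∈ L a i) : x * y = y * x := by
  obtain ⟨b, hab⟩ : ∃ b, b ≠ a := ⟨!a, by cases a <;> decide⟩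
  set d := g b i with hd
  have hdT : d ∈ L b i := h.gm b i
  -- `r := ⁅d, x⁆`
  have hrT : ⁅d, x⁆ ∈ T := by
    rw [commutatorElement_def]
    exact mul_mem (h.g_conj b i hx) (inv_mem hx)
  have hrL : ⁅d, x⁆ ∈ L b i := comm_mem hdT (h.nrm x hx b i)
  have hry : ⁅d, x⁆ * y = y * ⁅d, x⁆ := h.comm_ne hab hrT hrL hy hyL
  have hx' : d * x * d⁻¹ ∈ T := h.g_conj b i hx
  have hc : ⁅y, d * x * d⁻¹⁆ = 1 := by
    by_contra hc1
    have hcT : ⁅y, d * x * d⁻¹⁆ ∈ T := by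
      rw [commutatorElement_def]
      exact mul_mem (mul_mem (mul_mem hy hx') (inv_mem hy)) (inv_mem hx')
    have hcL : ⁅y, d * x * d⁻¹⁆ ∈ L a i := comm_mem hyL (h.nrm _ hx' a i)
    have hcL' : d⁻¹ * ⁅y, d * x * d⁻¹⁆ * d ∈ L a i := by
      have h1 : d⁻¹ * ⁅y, d * x * d⁻¹⁆ * d = ⁅d⁻¹ * y * d, x⁆ := by
        rw [commutatorElement_def, commutatorElement_def]; group
      rw [h1]
      apply comm_mem' hxL
      refine h.nrm _ ?_ a i
      have := conj_mem_of_cj (cj_inv_eq (h.gT b i)) hy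
      rwa [inv_inv] at this
    have h2 := h.fus2 h.two (y := d⁻¹) hcT hcL hc1 (b := a) (k := i) (by rw [inv_inv]; exact hcL')
    apply h.g_not (i := i) hab
    intro k
    have h3 : cj d⁻¹ (L a k) = L a k := by
      by_cases hk : i = k
      · subst hk; exact h2.1
      · exact h2.2 k k hk hk
    have := cj_inv_eq h3
    rwa [inv_inv] at this
  have h3 : y * (d * x * d⁻¹) = (d * x * d⁻¹) * y := comm_eq_one hc
  rw [conj_eq_comm_mul] at h3
  have h4 : ⁅d, x⁆ * (x * y) = ⁅d, x⁆ * (y * x) := by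
    calc ⁅d, x⁆ * (x * y) = ⁅d, x⁆ * x * y := by group
      _ = y * (⁅d, x⁆ * x) := h3.symm
      _ = (y * ⁅d, x⁆) * x := by group
      _ = ⁅d, x⁆ * (y * x) := by rw [← hry]; group
  exact mul_left_cancel h4

/-- all the groups `P` commute -/
theorem cT (h : BD L T g) {a b i k : Bool} {x y : G} (hx : x ∈ T) (hxL : x ∈ L a i) (hy : y ∈ T)
    (hyL : y ∈ L b k) : x * y = y * x := by
  by_cases hab : a = b
  · subst hab
    by_cases hik : i = k
    · subst hik; exact h.comm_P hx hxL hy hyL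
    · exact h.comm a i k hik x hxL y hyL
  · exact h.comm_ne hab hx hxL hy hyL

end BD

end Cfsg.Agent.OddHalf.D3.BTwo
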