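import Cfsg.Agent.OddHalf.D3.BTwo.Basic

/-!
# ODD D3 (b), `n = 2`, case (B2) (bb ODD 9609): the isomorphisms `⁅d, ·⁆`, (2) and (3)
-/

set_option autoImplicit false

namespace Cfsg.Agent.OddHalf.D3.BTwo

open Cfsg.Agent.OddHalf.D3.ThreeDefs Cfsg.Agent.OddHalf.D3.ThreeFam Cfsg.Agent.OddHalf.D3.ThreeMain
  Cfsg.Agent.OddHalf.D3.ThreeEnd
open scoped commutatorElement

universe u

variable {G : Type u} [Group G]

/-- `d ∈ L a i - T`, in a 2-group over `T`, conjugating `P a i` and `P b k` into `T` -/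
structure Gd (L : Bool → Bool → Subgroup G) (T : Subgroup G) (a i b k : Bool) (S : Subgroup G) (d : G) : Prop where
  hS : IsPGroup 2 S
  TS : T ≤ S
  dS : d ∈ S
  dL : d ∈ L a i
  nT : d ∉ T
  P : ∀ x ∈ T, x ∈ L a i → d * x * d⁻¹ ∈ T
  R : ∀ x ∈ T, x ∈ L b k → d * x * d⁻¹ ∈ T

variable {L : Bool → Bool → Subgroup G} {T : Subgroup G} {g : Bool → Bool → G}

namespace BD

variable [Finite G]

theorem gd (h : BD L T g) (a i b k : Bool) : ∃ S, Gd L T a i b k S (g a i) := by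
  obtain ⟨S, hS, hTS, hgS⟩ := h.exS a i
  exact ⟨S, hS, hTS, hgS, h.gm a i, h.gn a i, fun x hx _ => h.g_conj a i hx, fun x hx _ => h.g_conj a i hx⟩

end BD

namespace Gd

variable [Finite G] {a i b k : Bool} {S : Subgroup G} {d : G}

theorem rT (_h : BD L T g) (D : Gd L T a i b k S d) {x : G} (hx : x ∈ T) (hxL : x ∈ L b k) : ⁅d, x⁆ ∈ T := by
  rw [commutatorElement_def]
  exact mul_mem (D.R x hx hxL) (inv_mem hx)

theorem rL (h : BD L T g) (D : Gd L T a i b k S d) {x : G} (hx : x ∈ T) : ⁅d, x⁆ ∈ L a i :=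
  comm_mem D.dL (h.nrm x hx a i)

theorem rmul (h : BD L T g) (D : Gd L T a i b k S d) {x y : G} (hx : x ∈ T) (hxL : x ∈ L b k)
    (hy : y ∈ T) (hyL : y ∈ L b k) : ⁅d, x * y⁆ = ⁅d, x⁆ * ⁅d, y⁆ := by
  have h1 : x * ⁅d, y⁆ = ⁅d, y⁆ * x := h.cT hx hxL (D.rT h hy hyL) (D.rL h hy)
  have h2 : ⁅d, x * y⁆ = ⁅d, x⁆ * (x * ⁅d, y⁆) * x⁻¹ := by
    simp only [commutatorElement_def]; group
  rw [h2, h1]; group

theorem rinj (h : BD L T g) (hab : a ≠ b) (D : Gd L T a i b k S d) {x : G} (hx : x ∈ T) (hxL : x ∈ L b k)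
    (h1 : ⁅d, x⁆ = 1) : x = 1 := by
  by_contra hx1
  exact D.nT (h.mem_T_of_comm D.hS D.TS hab D.dS D.dL hx hxL hx1 (comm_eq_one h1))

/-- the homomorphism `⁅d, ·⁆ : P b k → P a i` -/
def hom (h : BD L T g) (D : Gd L T a i b k S d) : ↥(T ⊓ L b k) →* ↥(T ⊓ L a i) where
  toFun x := ⟨⁅d, (x : G)⁆, D.rT h x.2.1 x.2.2, D.rL h x.2.1⟩
  map_one' := by
    apply Subtype.ext
    simp
  map_mul' := by
    intro x y
    exact Subtype.ext (D.rmul h x.2.1 x.2.2 y.2.1 y.2.2)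

theorem hom_apply (h : BD L T g) (D : Gd L T a i b k S d) (x : ↥(T ⊓ L b k)) : ((D.hom h x : ↥(T ⊓ L a i)) : G) = ⁅d, (x : G)⁆ :=
  rfl

theorem hom_injective (h : BD L T g) (hab : a ≠ b) (D : Gd L T a i b k S d) : Function.Injective (D.hom h) := by
  rw [injective_iff_map_eq_one]
  intro x hx
  exact Subtype.ext (D.rinj h hab x.2.1 x.2.2 (congrArg Subtype.val hx))

theorem card_le (h : BD L T g) (hab : a ≠ b) (D : Gd L T a i b k S d) : Nat.card ↥(T ⊓ L b k) ≤ Nat.card ↥(T ⊓ L a i) :=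
  Nat.card_le_card_of_injective _ (D.hom_injective h hab)

end Gd

namespace BD

variable [Finite G]

theorem exists_ne (a : Bool) : ∃ b, a ≠ b := ⟨!a, by cases a <;> decide⟩

theorem card_eq (h : BD L T g) (a i b k : Bool) : Nat.card ↥(T ⊓ L a i) = Nat.card ↥(T ⊓ L b k) := by
  have key : ∀ a i b k : Bool, a ≠ b → Nat.card ↥(T ⊓ L a i) ≤ Nat.card ↥(T ⊓ L b k) := by
    intro a i b k hab
    obtain ⟨S, D⟩ := h.gd b k a i
    exact D.card_le h (Ne.symm hab)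
  have key2 : ∀ a i b k : Bool, Nat.card ↥(T ⊓ L a i) ≤ Nat.card ↥(T ⊓ L b k) := by
    intro a i b k
    by_cases hab : a = b
    · subst hab
      obtain ⟨c, hc⟩ := exists_ne a
      exact (key a i c i hc).trans (key c i a k (Ne.symm hc))
    · exact key a i b k hab
  exact le_antisymm (key2 a i b k) (key2 b k a i)

/-- `P a i ≠ 1` -/
theorem P_ne (h : BD L T g) (a i : Bool) : ∃ x ∈ T ⊓ L a i, x ≠ 1 := by
  obtain ⟨b, k, x, hx, hxL, hx1⟩ := h.ne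
  have h1 : 1 < Nat.card ↥(T ⊓ L b k) := by
    rw [Finite.one_lt_card_iff_nontrivial]
    exact ⟨⟨⟨x, hx, hxL⟩, 1, fun h2 => hx1 (congrArg Subtype.val h2)⟩⟩
  rw [h.card_eq b k a i, Finite.one_lt_card_iff_nontrivial] at h1
  obtain ⟨⟨y, hy⟩, hy1⟩ := @_root_.exists_ne _ h1 (1 : ↥(T ⊓ L a i))
  exact ⟨y, hy, fun h2 => hy1 (Subtype.ext h2)⟩

end BD

namespace Gd

variable [Finite G] {a i b k : Bool} {S : Subgroup G} {d : G}

theorem rsurj (h : BD L T g) (hab : a ≠ b) (D : Gd L T a i b k S d) {p : G} (hp : p ∈ T) (hpL : p ∈ L a i) :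
    ∃ x ∈ T, x ∈ L b k ∧ ⁅d, x⁆ = p := by
  have h1 : Function.Bijective (D.hom h) := by
    rw [Nat.bijective_iff_injective_and_card]
    exact ⟨D.hom_injective h hab, h.card_eq b k a i⟩
  obtain ⟨x, hx⟩ := h1.2 ⟨p, hp, hpL⟩
  exact ⟨x, x.2.1, x.2.2, congrArg Subtype.val hx⟩

theorem rone (h : BD L T g) (hab : a ≠ b) (D : Gd L T a i b k S d) {x : G} (hx : x ∈ T) (hxL : x ∈ L b k) :
    ⁅d, x⁆ = 1 ↔ x = 1 :=
  ⟨D.rinj h hab hx hxL, fun h1 => by rw [h1]; simp⟩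

theorem rsq (h : BD L T g) (hab : a ≠ b) (D : Gd L T a i b k S d) {x : G} (hx : x ∈ T) (hxL : x ∈ L b k) :
    ⁅d, x⁆ * ⁅d, x⁆ = 1 ↔ x * x = 1 := by
  rw [← D.rmul h hx hxL hx hxL]
  exact D.rone h hab (mul_mem hx hx) (mul_mem hxL hxL)

/-- `d² ∈ T` -/
theorem sq (h : BD L T g) (hab : a ≠ b) (D : Gd L T a i b k S d) : d * d ∈ T := by
  obtain ⟨p, hp, hp2, hp1, hdp⟩ := exists_fix D.hS D.dS (P := T ⊓ L a i) (inf_le_left.trans D.TS)
    (fun x hx => ⟨D.P x hx.1 hx.2, (L a i).mul_mem ((L a i).mul_mem D.dL hx.2) ((L a i).inv_mem D.dL)⟩) (h.P_ne a i)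
  obtain ⟨x, hx, hxL, hxp⟩ := D.rsurj h hab hp.1 hp.2
  have hx1 : x ≠ 1 := by
    rintro rfl
    apply hp1
    rw [← hxp]; simp
  refine h.mem_T_of_comm D.hS D.TS hab (mul_mem D.dS D.dS) (mul_mem D.dL D.dL) hx hxL hx1 ?_
  have h1 : d * x * d⁻¹ = p * x := by rw [conj_eq_comm_mul, hxp]
  have h2 : d * (p * x) * d⁻¹ = x := by
    calc d * (p * x) * d⁻¹ = (d * p * d⁻¹) * (d * x * d⁻¹) := by group
      _ = (p * d * d⁻¹) * (p * x) := by rw [h1, hdp]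
      _ = (p * p) * x := by group
      _ = x := by rw [hp2, one_mul]
  calc d * d * x = d * (d * x * d⁻¹) * d⁻¹ * (d * d) := by group
    _ = d * (p * x) * d⁻¹ * (d * d) := by rw [h1]
    _ = x * (d * d) := by rw [h2]

/-- `d` inverts `P a i` -/
theorem inv (h : BD L T g) (hab : a ≠ b) (D : Gd L T a i b k S d) {p : G} (hp : p ∈ T) (hpL : p ∈ L a i) :
    d * p * d⁻¹ = p⁻¹ := by
  obtain ⟨x, hx, hxL, hxp⟩ := D.rsurj h hab hp hpL
  have h1 : d * x * d⁻¹ = p * x := by rw [conj_eq_comm_mul, hxp]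
  have h2 : (d * d) * x = x * (d * d) := h.cT (D.sq h hab) (mul_mem D.dL D.dL) hx hxL
  have h3 : (d * p * d⁻¹) * (p * x) = x := by
    calc (d * p * d⁻¹) * (p * x) = (d * p * d⁻¹) * (d * x * d⁻¹) := by rw [h1]
      _ = d * (p * x) * d⁻¹ := by group
      _ = d * (d * x * d⁻¹) * d⁻¹ := by rw [h1]
      _ = (d * d) * x * (d * d)⁻¹ := by group
      _ = x := by rw [h2]; group
  have h4 : (d * p * d⁻¹) * p = 1 := by
    calc (d * p * d⁻¹) * p = (d * p * d⁻¹) * (p * x) * x⁻¹ := by group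
      _ = 1 := by rw [h3]; group
  exact eq_inv_of_mul_eq_one_left h4

end Gd

namespace BD

variable [Finite G] {a b : Bool}

theorem g_inv (h : BD L T g) (a i : Bool) {p : G} (hp : p ∈ T) (hpL : p ∈ L a i) : g a i * p * (g a i)⁻¹ = p⁻¹ := by
  obtain ⟨b, hab⟩ := exists_ne a
  obtain ⟨S, D⟩ := h.gd a i b i
  exact D.inv h hab hp hpL

theorem cm_T (h : BD L T g) {x : G} (hx : x ∈ T) (a i : Bool) : ⁅g a i, x⁆ ∈ T := by
  rw [commutatorElement_def]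
  exact mul_mem (h.g_conj a i hx) (inv_mem hx)

theorem cm_L (h : BD L T g) {x : G} (hx : x ∈ T) (a i : Bool) : ⁅g a i, x⁆ ∈ L a i := comm_mem (h.gm a i) (h.nrm x hx a i)

theorem cm_mul (h : BD L T g) (a i : Bool) {b k : Bool} {x y : G} (hx : x ∈ T) (hxL : x ∈ L b k) (hy : y ∈ T)
    (hyL : y ∈ L b k) : ⁅g a i, x * y⁆ = ⁅g a i, x⁆ * ⁅g a i, y⁆ := by
  obtain ⟨S, D⟩ := h.gd a i b k
  exact D.rmul h hx hxL hy hyL

theorem cm_one (h : BD L T g) {a b : Bool} (hab : a ≠ b) {i k : Bool} {x : G} (hx : x ∈ T) (hxL : x ∈ L b k) :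
    ⁅g a i, x⁆ = 1 ↔ x = 1 := by
  obtain ⟨S, D⟩ := h.gd a i b k
  exact D.rone h hab hx hxL

theorem cm_sq (h : BD L T g) {a b : Bool} (hab : a ≠ b) {i k : Bool} {x : G} (hx : x ∈ T) (hxL : x ∈ L b k) :
    ⁅g a i, x⁆ * ⁅g a i, x⁆ = 1 ↔ x * x = 1 := by
  obtain ⟨S, D⟩ := h.gd a i b k
  exact D.rsq h hab hx hxL

theorem cm_surj (h : BD L T g) {a b : Bool} (hab : a ≠ b) (i k : Bool) {p : G} (hp : p ∈ T) (hpL : p ∈ L a i) :
    ∃ x ∈ T, x ∈ L b k ∧ ⁅g a i, x⁆ = p := by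
  obtain ⟨S, D⟩ := h.gd a i b k
  exact D.rsurj h hab hp hpL

/-- `g b k` and `g b k'` commute -/
theorem g_comm (h : BD L T g) {k k' : Bool} (hk : k ≠ k') (b : Bool) : g b k * g b k' = g b k' * g b k :=
  h.comm b k k' hk _ (h.gm b k) _ (h.gm b k')

variable {i i' k k' : Bool}

/-- (2): conjugation by `g b k g b k'` on `P a i` -/
theorem j_conj (h : BD L T g) (hk : k ≠ k') {p : G} (hp : p ∈ T) :
    g b k * g b k' * p * (g b k * g b k')⁻¹ = ⁅g b k, p⁆ * ⁅g b k', p⁆ * p := by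
  have h1 : g b k * ⁅g b k', p⁆ = ⁅g b k', p⁆ * g b k := h.comm b k k' hk _ (h.gm b k) _ (h.cm_L hp b k')
  have h2 : ⁅g b k, p⁆ * ⁅g b k', p⁆ = ⁅g b k', p⁆ * ⁅g b k, p⁆ := h.comm b k k' hk _ (h.cm_L hp b k) _ (h.cm_L hp b k')
  calc g b k * g b k' * p * (g b k * g b k')⁻¹ = g b k * (g b k' * p * (g b k')⁻¹) * (g b k)⁻¹ := by group
    _ = g b k * (⁅g b k', p⁆ * p) * (g b k)⁻¹ := by rw [conj_eq_comm_mul (g b k') p]
    _ = (g b k * ⁅g b k', p⁆) * p * (g b k)⁻¹ := by group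
    _ = (⁅g b k', p⁆ * g b k) * p * (g b k)⁻¹ := by rw [h1]
    _ = ⁅g b k', p⁆ * (g b k * p * (g b k)⁻¹) := by group
    _ = ⁅g b k', p⁆ * (⁅g b k, p⁆ * p) := by rw [conj_eq_comm_mul (g b k) p]
    _ = (⁅g b k', p⁆ * ⁅g b k, p⁆) * p := by group
    _ = _ := by rw [h2]

theorem j_T (h : BD L T g) {p : G} (hp : p ∈ T) : g b k * g b k' * p * (g b k * g b k')⁻¹ ∈ T := by
  have : g b k * g b k' * p * (g b k * g b k')⁻¹ = g b k * (g b k' * p * (g b k')⁻¹) * (g b k)⁻¹ := by group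
  rw [this]
  exact h.g_conj b k (h.g_conj b k' hp)

theorem j_L (h : BD L T g) (hab : a ≠ b) (hk : k ≠ k') (hi : i ≠ i') {p : G} (hpL : p ∈ L a i) :
    g b k * g b k' * p * (g b k * g b k')⁻¹ ∈ L a i' := by
  have h1 := conj_mem_cj (g := g b k * g b k') hpL
  rwa [h.sw a b hab k k' hk i i' hi] at h1

/-- `⁅g b k, j p j⁻¹⁆ = ⁅g b k, p⁆⁻¹` -/
theorem cm_j (h : BD L T g) (hk : k ≠ k') {p : G} (hp : p ∈ T) :
    ⁅g b k, g b k * g b k' * p * (g b k * g b k')⁻¹⁆ = ⁅g b k, p⁆⁻¹ := by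
  have h1 := h.g_comm hk b
  have h2 : g b k' * ⁅g b k, p⁆ * (g b k')⁻¹ = ⁅g b k, p⁆ := by
    have := h.comm b k' k (Ne.symm hk) _ (h.gm b k') _ (h.cm_L hp b k)
    rw [this]; group
  have h3 : g b k * ⁅g b k, p⁆ * (g b k)⁻¹ = ⁅g b k, p⁆⁻¹ := h.g_inv b k (h.cm_T hp b k) (h.cm_L hp b k)
  have h4 : g b k * (g b k * g b k') = (g b k * g b k') * g b k := by
    rw [mul_assoc, h1]
  calc ⁅g b k, g b k * g b k' * p * (g b k * g b k')⁻¹⁆
      = (g b k * (g b k * g b k')) * p * (g b k * (g b k * g b k'))⁻¹ * (g b k * g b k' * p * (g b k * g b k')⁻¹)⁻¹ := by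
        rw [commutatorElement_def]; group
    _ = ((g b k * g b k') * g b k) * p * ((g b k * g b k') * g b k)⁻¹ * (g b k * g b k' * p * (g b k * g b k')⁻¹)⁻¹ := by
        rw [h4]
    _ = g b k * ((g b k' * ⁅g b k, p⁆ * (g b k')⁻¹)) * (g b k)⁻¹ := by
        rw [commutatorElement_def]; group
    _ = _ := by rw [h2, h3]

end BD

end Cfsg.Agent.OddHalf.D3.BTwo
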