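import Cfsg.Agent.OddHalf.D3.BTwo.Elem
import Cfsg.Agent.TwoFusion.MaxClass
import Cfsg.Agent.Lib.Dihedral

/-!
# ODD D3 (b), `n = 2`, case (B2) (bb ODD 9609): (8), the Sylow 2-subgroups are dihedral
-/

set_option autoImplicit false

namespace Cfsg.Agent.OddHalf.D3.BTwo

open Cfsg.Agent.OddHalf.D3.ThreeDefs Cfsg.Agent.OddHalf.D3.ThreeFam Cfsg.Agent.OddHalf.D3.ThreeMain
  Cfsg.Agent.OddHalf.D3.ThreeEnd
open scoped commutatorElement

universe u

/-- dihedral subgroups of index 2 -/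
theorem dih_sub {S : Type*} [Group S] [Finite S] (hS : IsPGroup 2 S) (x : S) (hidx : (Subgroup.zpowers x).index = 2)
    (hinv : ∀ y, y ∉ Subgroup.zpowers x → y * (x * x) * y⁻¹ = (x * x)⁻¹) (R : Subgroup S) (hR : R.index = 2)
    (h4 : 4 ≤ Nat.card R) {t1 t2 : S} (h1 : t1 ∈ R) (h2 : t2 ∈ R) (h11 : t1 * t1 = 1) (h22 : t2 * t2 = 1)
    (hn1 : t1 ≠ 1) (hn2 : t2 ≠ 1) (hne : t1 ≠ t2) : ∃ m, 2 ≤ m ∧ Nonempty (R ≃* DihedralGroup m) := by
  -- an involution of `R` outside `⟨x⟩`
  obtain ⟨y, hyR, hyx, hyy⟩ : ∃ y ∈ R, y ∉ Subgroup.zpowers x ∧ y * y = 1 := by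
    by_contra hcon
    push Not at hcon
    have hx1 : t1 ∈ Subgroup.zpowers x := by
      by_contra h0; exact hcon t1 h1 h0 h11
    have hx2 : t2 ∈ Subgroup.zpowers x := by
      by_contra h0; exact hcon t2 h2 h0 h22
    classical
    haveI : Fintype (Subgroup.zpowers x) := Fintype.ofFinite _
    have h3 := IsCyclic.card_pow_eq_one_le (α := Subgroup.zpowers x) (n := 2) (by norm_num)
    have h5 : ({1, ⟨t1, hx1⟩, ⟨t2, hx2⟩} : Finset (Subgroup.zpowers x)) ⊆ Finset.univ.filter (fun a => a ^ 2 = 1) := by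
      intro a ha
      rw [Finset.mem_filter]
      refine ⟨Finset.mem_univ _, ?_⟩
      rw [Finset.mem_insert, Finset.mem_insert, Finset.mem_singleton] at ha
      rcases ha with rfl | rfl | rfl
      · simp
      · rw [pow_two]; exact Subtype.ext h11
      · rw [pow_two]; exact Subtype.ext h22
    have h6 : ({1, ⟨t1, hx1⟩, ⟨t2, hx2⟩} : Finset (Subgroup.zpowers x)).card = 3 := by
      rw [Finset.card_eq_three]
      refine ⟨1, ⟨t1, hx1⟩, ⟨t2, hx2⟩, ?_, ?_, ?_, rfl⟩
      · intro h0; exact hn1 (congrArg Subtype.val h0).symm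
      · intro h0; exact hn2 (congrArg Subtype.val h0).symm
      · intro h0; exact hne (congrArg Subtype.val h0)
    have h7 := Finset.card_le_card h5
    omega
  have hxx : x * x ∈ R := Subgroup.mul_self_mem_of_index_two hR x
  have hxR : x ∉ R := by
    intro h0
    apply hyx
    have h3 : Subgroup.zpowers x ≤ R := by rw [Subgroup.zpowers_le]; exact h0
    have h5 : Subgroup.zpowers x = R := by
      refine Subgroup.eq_of_le_of_card_ge h3 ?_
      have e1 := Subgroup.card_mul_index R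
      have e2 := Subgroup.card_mul_index (Subgroup.zpowers x)
      rw [hR] at e1
      rw [hidx] at e2
      omega
    rw [h5]; exact hyR
  have hyi : y⁻¹ = y := inv_of_sq hyy
  have hyR' : y * (x * x) * y = (x * x)⁻¹ := by
    have := hinv y hyx
    rwa [hyi] at this
  have hy' : y ∉ Subgroup.zpowers (x * x) := by
    intro h0
    apply hyx
    have : Subgroup.zpowers (x * x) ≤ Subgroup.zpowers x := by
      rw [Subgroup.zpowers_le]
      exact mul_mem (Subgroup.mem_zpowers x) (Subgroup.mem_zpowers x)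
    exact this h0
  -- orders
  have hordx : Nat.card S = orderOf x * 2 := by
    rw [← Nat.card_zpowers, ← hidx]
    exact (Subgroup.card_mul_index _).symm
  have hcR : Nat.card R = orderOf x := by
    have := Subgroup.card_mul_index R
    rw [hR, hordx] at this
    omega
  have hev : 2 ∣ orderOf x := by
    obtain ⟨k, hk⟩ := (IsPGroup.iff_card (p := 2)).mp (hS.to_subgroup R)
    rw [← hcR, hk]
    have : k ≠ 0 := by
      rintro rfl
      rw [hk] at h4
      norm_num at h4
    exact dvd_pow_self 2 this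
  have hordxx : orderOf (x * x) = orderOf x / 2 := by
    rw [← pow_two, orderOf_pow' x (by norm_num), Nat.gcd_eq_right hev]
  refine ⟨orderOf x / 2, by omega, ?_⟩
  exact Lib.Dihedral.nonempty_mulEquiv_subgroup (by omega) R (x * x) y hxx hyR hordxx hyy hyR' hy' (by omega)

/-- the cyclic subgroup of index 2 of a dihedral or quasi-dihedral 2-group -/
theorem exists_cyc {S : Type*} [Group S] [Finite S]
    (h : (∃ m : ℕ, 2 ≤ m ∧ Nonempty (S ≃* DihedralGroup m)) ∨ Cfsg.IsQuasiDihedral S) :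
    ∃ x : S, (Subgroup.zpowers x).index = 2 ∧ ∀ y, y ∉ Subgroup.zpowers x → y * (x * x) * y⁻¹ = (x * x)⁻¹ := by
  rcases h with ⟨m, hm, ⟨e⟩⟩ | ⟨n, hn, hcard, x, v, hx, hv, hvx⟩
  · haveI : NeZero m := ⟨by omega⟩
    refine ⟨e.symm (DihedralGroup.r 1), ?_, ?_⟩
    · have h1 := Subgroup.card_mul_index (Subgroup.zpowers (e.symm (DihedralGroup.r 1)))
      rw [Nat.card_zpowers, MulEquiv.orderOf_eq, DihedralGroup.orderOf_r_one, Nat.card_congr e.toEquiv,
        DihedralGroup.nat_card, mul_comm 2 m] at h1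
      exact Nat.eq_of_mul_eq_mul_left (by omega) h1
    · intro y hy
      obtain ⟨z, rfl⟩ := e.symm.surjective y
      rw [← map_mul, ← map_mul, ← map_inv, ← map_mul, ← map_inv]
      congr 1
      match z, hy with
      | DihedralGroup.r i, hy =>
        exfalso
        apply hy
        have h1 : (DihedralGroup.r i : DihedralGroup m) = DihedralGroup.r 1 ^ (i.val) := by
          rw [DihedralGroup.r_one_pow, ZMod.natCast_val, ZMod.cast_id', id]
        rw [h1, map_pow]
        exact pow_mem (Subgroup.mem_zpowers _) _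
      | DihedralGroup.sr i, hy =>
        simp
  · have h1 : (Subgroup.zpowers x).index = 2 := by
      have h2 := Subgroup.card_mul_index (Subgroup.zpowers x)
      rw [Nat.card_zpowers, hx, hcard, pow_succ] at h2
      exact Nat.eq_of_mul_eq_mul_left (by positivity) h2
    have hvn : v ∉ Subgroup.zpowers x := by
      intro h0
      obtain ⟨k, hk⟩ := Subgroup.mem_zpowers_iff.mp h0
      have h2 : v * x * v⁻¹ = x := by
        have : Commute v x := by rw [← hk]; exact (Commute.refl x).zpow_left k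
        rw [this.eq]; group
      rw [h2] at hvx
      have h3 : x ^ (2 ^ (n - 1) - 2) = 1 := by
        have h4 : (2 : ℕ) ^ (n - 1) - 1 = (2 ^ (n - 1) - 2) + 1 := by
          have : 2 ^ 2 ≤ 2 ^ (n - 1) := Nat.pow_le_pow_right (by norm_num) (by omega)
          omega
        rw [h4, pow_succ] at hvx
        have := hvx.symm
        exact mul_eq_right.mp this
      have h5 := orderOf_dvd_of_pow_eq_one h3
      rw [hx] at h5
      have h6 : 0 < 2 ^ (n - 1) - 2 := by
        have : 2 ^ 2 ≤ 2 ^ (n - 1) := Nat.pow_le_pow_right (by norm_num) (by omega)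
        omega
      have h7 := Nat.le_of_dvd h6 h5
      have h8 : 2 ^ (n - 1) ≤ 2 ^ n := Nat.pow_le_pow_right (by norm_num) (by omega)
      omega
    refine ⟨x, h1, ?_⟩
    intro y hy
    have hyv : y * v ∈ Subgroup.zpowers x := by
      by_contra h0
      exact h0 ((Subgroup.mul_mem_iff_of_index_two h1).mpr (by simp [hy, hvn]))
    obtain ⟨k, hk⟩ := Subgroup.mem_zpowers_iff.mp hyv
    have hvv : v * v = 1 := by rw [← pow_two, ← hv]; exact pow_orderOf_eq_one v
    have hvi : v⁻¹ = v := inv_of_sq hvv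
    have hy2 : y = x ^ k * v := by
      rw [hk, mul_assoc, hvv, mul_one]
    have h3 : v * (x * x) * v⁻¹ = (x * x)⁻¹ := by
      calc v * (x * x) * v⁻¹ = (v * x * v⁻¹) * (v * x * v⁻¹) := by group
        _ = x ^ (2 ^ n - 2) := by
          rw [hvx, ← pow_add]
          congr 1
          have : 2 ^ n = 2 ^ (n - 1) * 2 := by rw [← pow_succ]; congr 1; omega
          have : 2 ^ 2 ≤ 2 ^ (n - 1) := Nat.pow_le_pow_right (by norm_num) (by omega)
          omega
        _ = (x * x)⁻¹ := by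
          apply eq_inv_of_mul_eq_one_left
          rw [← pow_two, ← pow_add, Nat.sub_add_cancel (by
            have : 2 ^ 2 ≤ 2 ^ n := Nat.pow_le_pow_right (by norm_num) (by omega)
            omega), ← hx, pow_orderOf_eq_one]
    calc y * (x * x) * y⁻¹ = x ^ k * (v * (x * x) * v⁻¹) * (x ^ k)⁻¹ := by rw [hy2]; group
      _ = x ^ k * (x * x)⁻¹ * (x ^ k)⁻¹ := by rw [h3]
      _ = (x * x)⁻¹ := by group

variable {G : Type u} [Group G]

variable {L : Bool → Bool → Subgroup G} {T : Subgroup G} {g : Bool → Bool → G}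

namespace BD

variable [Finite G] {a b i i' k k' : Bool}

theorem card_two (h : BD L T g) (a i : Bool) : Nat.card ↥(T ⊓ L a i) = 2 := by
  refine le_antisymm (h.card_le_two a i) ?_
  obtain ⟨x, hx, hx1⟩ := h.P_ne a i
  have : Nontrivial ↥(T ⊓ L a i) := ⟨⟨⟨x, hx⟩, 1, fun h2 => hx1 (congrArg Subtype.val h2)⟩⟩
  have := Finite.one_lt_card_iff_nontrivial.mpr this
  omega

/-- the elements of `P a i` -/
theorem eq_or (h : BD L T g) {a i : Bool} {z x : G} (hz : z ∈ T) (hzL : z ∈ L a i) (hz1 : z ≠ 1) (hx : x ∈ T)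
    (hxL : x ∈ L a i) : x = 1 ∨ x = z := by
  by_contra hcon
  push Not at hcon
  have h1 : ({1, z, x} : Set G) ⊆ ((T ⊓ L a i : Subgroup G) : Set G) := by
    rintro y (rfl | rfl | rfl)
    · exact one_mem _
    · exact ⟨hz, hzL⟩
    · exact ⟨hx, hxL⟩
  have h2 := Set.ncard_le_ncard h1 (Set.toFinite _)
  have h3 : ({1, z, x} : Set G).ncard = 3 := by
    rw [Set.ncard_eq_three]
    exact ⟨1, z, x, hz1.symm, fun h0 => hcon.1 h0.symm, fun h0 => hcon.2 h0.symm, rfl⟩
  rw [h3] at h2
  have h4 := h.card_two a i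
  have h5 : Nat.card ↥(T ⊓ L a i) = ((T ⊓ L a i : Subgroup G) : Set G).ncard := rfl
  omega

theorem sq_one (h : BD L T g) {a i : Bool} {x : G} (hx : x ∈ T) (hxL : x ∈ L a i) : x * x = 1 := by
  obtain ⟨z, hz, hzL, hz2, hz1⟩ := h.exists_inv a i
  rcases h.eq_or hz hzL hz1 hx hxL with h1 | h1
  · rw [h1, one_mul]
  · rw [h1, hz2]

/-- **(8)** -/
theorem dihedral (h : BD L T g) {R : Subgroup G} (hR : SylIn (L a i) R) (hRT : ∀ t ∈ T, cj t R = R)
    (hgR : g a i ∈ R) (hPR : T ⊓ L a i ≤ R) : ∃ m, 2 ≤ m ∧ Nonempty (R ≃* DihedralGroup m) := by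
  haveI : Fact (Nat.Prime 2) := ⟨Nat.prime_two⟩
  obtain ⟨b, hab⟩ := exists_ne a
  obtain ⟨e, he, heL, he2, he1⟩ := h.exists_inv b i
  have heR : cj e R = R := hRT e he
  let S := mulSub R (Subgroup.zpowers e) (cj_zpowers heR)
  have hS : IsPGroup 2 S := isPGroup_mulSub hR.two (isPGroup_zpowers h.two he)
  have hRS : R ≤ S := le_mulSub_left
  have heS : e ∈ S := le_mulSub_right (Subgroup.mem_zpowers e)
  have hzT : Subgroup.zpowers e ≤ T := by rw [Subgroup.zpowers_le]; exact he
  have hzL : Subgroup.zpowers e ≤ L b i := by rw [Subgroup.zpowers_le]; exact heL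
  have hdis : ∀ x, x ∈ R → x ∈ Subgroup.zpowers e → x = 1 := fun x hx hxe =>
    h.dis2 h.two (hzT hxe) (hR.le hx) (hzL hxe) (fun h0 => hab h0.1)
  have hoe : orderOf e = 2 := orderOf_eq_prime (by rw [pow_two]; exact he2) he1
  have hcS : Nat.card S = Nat.card R * 2 := by
    have := card_mulSub (h := cj_zpowers heR) hdis
    rwa [Nat.card_zpowers, hoe] at this
  have hRe : ∀ x ∈ R, x * e = e * x → x ∈ T := by
    intro x hx hxe
    have hSS : IsPGroup 2 (mulSub R T hRT) := isPGroup_mulSub hR.two h.two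
    exact h.mem_T_of_comm hSS le_mulSub_right hab (le_mulSub_left hx) (hR.le hx) he heL he1 hxe
  have hv : orderOf (⟨e, heS⟩ : S) = 2 := by rw [Subgroup.orderOf_mk]; exact hoe
  have hvc : (⟨e, heS⟩ : S) ∉ Subgroup.center S := by
    intro h0
    have h1 := Subgroup.mem_center_iff.mp h0 ⟨g a i, hRS hgR⟩
    exact h.gn a i (hRe _ hgR (congrArg Subtype.val h1))
  -- the centralizer
  have hc : Nat.card (Subgroup.centralizer ({(⟨e, heS⟩ : S)} : Set S)) = 4 := by
    have hcm : ∀ w ∈ Subgroup.zpowers e, cj w (T ⊓ L a i) = T ⊓ L a i :=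
      fun w hw => cj_eq_of_comm (fun x hx => h.cT (hzT hw) (hzL hw) hx.1 hx.2)
    have h1 : (Subgroup.centralizer ({(⟨e, heS⟩ : S)} : Set S)).map S.subtype =
        mulSub (T ⊓ L a i) (Subgroup.zpowers e) hcm := by
      ext y
      rw [Subgroup.mem_map]
      constructor
      · rintro ⟨⟨y, hy⟩, hyc, rfl⟩
        have h2 : y * e = e * y := congrArg Subtype.val (Subgroup.mem_centralizer_singleton_iff.mp hyc)
        obtain ⟨r, hr, w, hw, e1⟩ := hy
        refine ⟨r, ⟨hRe r hr ?_, hR.le hr⟩, w, hw, e1⟩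
        have hwe : w * e = e * w := by
          obtain ⟨n, rfl⟩ := Subgroup.mem_zpowers_iff.mp hw
          exact ((Commute.refl e).zpow_left n).eq
        have h3 : (r * e) * w = (e * r) * w := by
          calc (r * e) * w = r * (w * e) := by rw [hwe]; group
            _ = (r * w) * e := by group
            _ = e * (r * w) := by rw [← e1, h2]
            _ = _ := by group
        exact mul_right_cancel h3
      · rintro ⟨p, hp, w, hw, rfl⟩
        refine ⟨⟨p * w, mul_mem (hRS (hPR hp)) (le_mulSub_right hw)⟩, ?_, rfl⟩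
        rw [Subgroup.mem_centralizer_singleton_iff]
        apply Subtype.ext
        have hwe : w * e = e * w := by
          obtain ⟨n, rfl⟩ := Subgroup.mem_zpowers_iff.mp hw
          exact ((Commute.refl e).zpow_left n).eq
        have hpe : p * e = e * p := h.cT hp.1 hp.2 he heL
        change p * w * e = e * (p * w)
        rw [mul_assoc, hwe, ← mul_assoc, hpe, mul_assoc]
    have h2 : Nat.card ((Subgroup.centralizer ({(⟨e, heS⟩ : S)} : Set S)).map S.subtype) = 4 := by
      rw [h1, card_mulSub (fun x hx hxe => hdis x (hPR hx) hxe), Nat.card_zpowers, hoe, h.card_two a i]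
    rw [← h2]
    exact Nat.card_congr ((Subgroup.centralizer ({(⟨e, heS⟩ : S)} : Set S)).equivMapOfInjective _
      (Subgroup.subtype_injective S)).toEquiv
  obtain ⟨x, hx, hinv⟩ := exists_cyc (TwoFusion.MaxClass.dihedral_or_qd_of_card_centralizer_eq_four hS ⟨e, heS⟩ hv hvc hc)
  -- `R` in `S`
  have hRcard : Nat.card (R.subgroupOf S) = Nat.card R := Nat.card_congr (Subgroup.subgroupOfEquivOfLe hRS).toEquiv
  have hRidx : (R.subgroupOf S).index = 2 := by
    have h1 := Subgroup.card_mul_index (R.subgroupOf S)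
    rw [hRcard, hcS] at h1
    exact Nat.eq_of_mul_eq_mul_left Nat.card_pos h1
  -- two commuting involutions in `R`
  obtain ⟨z, hz, hzLa, hz2, hz1⟩ := h.exists_inv a i
  obtain ⟨l, hl, hlz, hlc⟩ := h.zst a i z hzLa hz2 hz1
  obtain ⟨w0, hw0⟩ : ∃ w0, w0 = l * z * l⁻¹ := ⟨_, rfl⟩
  rw [← hw0] at hlz hlc
  have hw02 : w0 * w0 = 1 := by
    calc w0 * w0 = l * (z * z) * l⁻¹ := by rw [hw0]; group
      _ = 1 := by rw [hz2]; group
  have hw0L : w0 ∈ L a i := by rw [hw0]; exact mul_mem (mul_mem hl hzLa) (inv_mem hl)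
  have hw01 : w0 ≠ 1 := by
    intro h0
    apply hz1
    calc z = l⁻¹ * w0 * l := by rw [hw0]; group
      _ = 1 := by rw [h0]; group
  have hzs : ∀ γ : G, γ * γ = 1 → ∀ δ ∈ Subgroup.zpowers γ, δ * δ = 1 := by
    intro γ hγ δ hδ
    obtain ⟨m, rfl⟩ := Subgroup.mem_zpowers_iff.mp hδ
    rw [← zpow_add, ← two_mul, zpow_mul]
    have : γ ^ (2 : ℤ) = 1 := by rw [zpow_ofNat, pow_two]; exact hγ
    rw [this, one_zpow]
  have hcomm : ∀ p ∈ Subgroup.zpowers z, ∀ w ∈ Subgroup.zpowers w0, p * w = w * p := by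
    intro p hp w hw
    obtain ⟨m, rfl⟩ := Subgroup.mem_zpowers_iff.mp hp
    obtain ⟨m', rfl⟩ := Subgroup.mem_zpowers_iff.mp hw
    have : Commute z w0 := hlc
    exact ((this.zpow_left m).zpow_right m').eq
  have hQ : IsPGroup 2 (mulSub (Subgroup.zpowers z) (Subgroup.zpowers w0) (comm_cj hcomm)) :=
    isPGroup_of_sq (sq_mulSub hcomm (hzs z hz2) (hzs w0 hw02))
  obtain ⟨d, hd, hdQ⟩ := hR.conj (mulSub_le (by rw [Subgroup.zpowers_le]; exact hzLa)
    (by rw [Subgroup.zpowers_le]; exact hw0L)) hQ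
  have hd1 := hdQ z (le_mulSub_left (Subgroup.mem_zpowers z))
  have hd2 := hdQ w0 (le_mulSub_right (Subgroup.mem_zpowers w0))
  have hcj1 : ∀ y : G, y * y = 1 → (d * y * d⁻¹) * (d * y * d⁻¹) = 1 := by
    intro y hy
    calc (d * y * d⁻¹) * (d * y * d⁻¹) = d * (y * y) * d⁻¹ := by group
      _ = 1 := by rw [hy]; group
  have hcj2 : ∀ y : G, y ≠ 1 → d * y * d⁻¹ ≠ 1 := by
    intro y hy h0
    apply hy
    calc y = d⁻¹ * (d * y * d⁻¹) * d := by group
      _ = 1 := by rw [h0]; group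
  have h4 : 4 ≤ Nat.card (R.subgroupOf S) := by
    rw [hRcard]
    obtain ⟨n, hn⟩ := (IsPGroup.iff_card (p := 2)).mp hR.two
    have h5 : Nat.card R ≠ 1 := by
      intro h0
      have : R = ⊥ := Subgroup.eq_bot_of_card_eq R h0
      rw [this, Subgroup.mem_bot] at hgR
      apply h.gn a i
      rw [hgR]; exact one_mem _
    have h6 : Nat.card R ≠ 2 := by
      intro h0
      have h7 : T ⊓ L a i = R := Subgroup.eq_of_le_of_card_ge hPR (by rw [h0, h.card_two a i])
      rw [← h7] at hgR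
      exact h.gn a i hgR.1
    rw [hn] at h5 h6 ⊢
    have h8 : 2 ≤ n := by
      rcases n with _ | _ | n
      · exact absurd rfl h5
      · exact absurd rfl h6
      · omega
    calc 4 = 2 ^ 2 := by norm_num
      _ ≤ 2 ^ n := Nat.pow_le_pow_right (by norm_num) h8
  obtain ⟨m, hm, ⟨ε⟩⟩ := dih_sub hS x hx hinv (R.subgroupOf S) hRidx h4
    (t1 := ⟨d * z * d⁻¹, hRS hd1⟩) (t2 := ⟨d * w0 * d⁻¹, hRS hd2⟩) hd1 hd2
    (Subtype.ext (hcj1 z hz2)) (Subtype.ext (hcj1 w0 hw02))
    (fun h0 => hcj2 z hz1 (congrArg Subtype.val h0)) (fun h0 => hcj2 w0 hw01 (congrArg Subtype.val h0))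
    (fun h0 => hlz (by
      have h1 : d * z * d⁻¹ = d * w0 * d⁻¹ := congrArg Subtype.val h0
      exact (mul_left_cancel (mul_right_cancel h1)).symm))
  exact ⟨m, hm, ⟨(Subgroup.subgroupOfEquivOfLe hRS).symm.trans ε⟩⟩

end BD

end Cfsg.Agent.OddHalf.D3.BTwo
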