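import Cfsg.Agent.OddHalf.D3.BTwo.NonElem
import Cfsg.Agent.Lib.CoprimeAbelian

/-!
# ODD D3 (b), `n = 2`, case (B2) (bb ODD 9609): (6), `|P| = 2`
-/

set_option autoImplicit false

namespace Cfsg.Agent.OddHalf.D3.BTwo

open Cfsg.Agent.OddHalf.D3.ThreeDefs Cfsg.Agent.OddHalf.D3.ThreeFam Cfsg.Agent.OddHalf.D3.ThreeMain
  Cfsg.Agent.OddHalf.D3.ThreeEnd
open scoped commutatorElement

universe u

variable {G : Type u} [Group G]

/-- the automorphisms of `R` induced by `X ∩ N(R)` -/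
def act (R X : Subgroup G) : Subgroup (MulAut R) :=
  (X.subgroupOf (Subgroup.normalizer (R : Set G))).map R.normalizerMonoidHom

theorem mem_act {R X : Subgroup G} {σ : MulAut R} : σ ∈ act R X ↔ ∃ x ∈ X, cj x R = R ∧ ∀ r : R, ((σ r : R) : G) = x * r * x⁻¹ := by
  unfold act
  rw [Subgroup.mem_map]
  constructor
  · rintro ⟨⟨x, hx⟩, hxX, rfl⟩
    exact ⟨x, hxX, cj_of_mem_normalizer hx, fun r => rfl⟩
  · rintro ⟨x, hxX, hxR, h⟩
    refine ⟨⟨x, mem_normalizer_of_cj hxR⟩, hxX, ?_⟩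
    ext r
    rw [h r]; rfl

/-- the automorphism induced by `x` -/
def au {R : Subgroup G} {x : G} (hx : cj x R = R) : MulAut R := R.normalizerMonoidHom ⟨x, mem_normalizer_of_cj hx⟩

theorem au_apply {R : Subgroup G} {x : G} (hx : cj x R = R) (r : R) : ((au hx r : R) : G) = x * r * x⁻¹ := rfl

theorem au_mem {R X : Subgroup G} {x : G} (hx : cj x R = R) (hxX : x ∈ X) : au hx ∈ act R X :=
  mem_act.mpr ⟨x, hxX, hx, au_apply hx⟩

/-- a Sylow 2-subgroup `R ≤ X` of `X` which is abelian: the automizer has odd order -/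
theorem odd_act [Finite G] {R X : Subgroup G} (hR : SylIn X R) (hab : ∀ x ∈ R, ∀ y ∈ R, x * y = y * x) :
    ¬ 2 ∣ Nat.card (act R X) := by
  apply odd_of_no_inv
  rintro ⟨σ, hσ⟩ hσ2
  have hσ2' : σ * σ = 1 := congrArg Subtype.val hσ2
  obtain ⟨n, hnX, hnR, hn⟩ := mem_act.mp hσ
  obtain ⟨a, m, hm, hord⟩ := Nat.exists_eq_two_pow_mul_odd (orderOf_pos n).ne'
  obtain ⟨t, ht⟩ := hm
  -- the 2-element `n ^ m`
  have h1 : (n ^ m) ^ 2 ^ a = 1 := by
    rw [← pow_mul, mul_comm, ← hord, pow_orderOf_eq_one]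
  have hp : IsPGroup 2 (Subgroup.zpowers (n ^ m)) := by
    intro x
    obtain ⟨k, hk⟩ := Subgroup.mem_zpowers_iff.mp x.2
    refine ⟨a, Subtype.ext ?_⟩
    push_cast
    rw [← hk, ← zpow_natCast, ← zpow_mul, mul_comm, zpow_mul, zpow_natCast, h1, one_zpow]
  have hmR : cj (n ^ m) R = R := by
    have h2 : n ^ m ∈ Subgroup.normalizer (R : Set G) := pow_mem (mem_normalizer_of_cj hnR) m
    exact cj_of_mem_normalizer h2
  have hmX : n ^ m ∈ X := pow_mem hnX m
  have h2 := hR.eq_of_le (Q := mulSub R (Subgroup.zpowers (n ^ m)) (cj_zpowers hmR)) le_mulSub_left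
    (mulSub_le hR.le (by rw [Subgroup.zpowers_le]; exact hmX)) (isPGroup_mulSub hR.two hp)
  have h3 : n ^ m ∈ R := by
    rw [← h2]
    exact le_mulSub_right (Subgroup.mem_zpowers _)
  -- `σ ^ m = σ`
  have h4 : σ ^ m = σ := by
    rw [ht, pow_succ, pow_mul, pow_two, hσ2', one_pow, one_mul]
  have h5 : ∀ (k : ℕ) (r : R), (((σ ^ k) r : R) : G) = n ^ k * r * (n ^ k)⁻¹ := by
    intro k
    induction k with
    | zero => intro r; simp
    | succ k ih =>
      intro r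
      rw [pow_succ', MulAut.mul_apply, hn, ih, pow_succ']
      group
  apply Subtype.ext
  change σ = 1
  rw [← h4]
  ext r
  rw [h5 m r, hab _ h3 _ r.2]
  simp

variable {L : Bool → Bool → Subgroup G} {T : Subgroup G} {g : Bool → Bool → G}

namespace BD

variable [Finite G] {a b i i' k k' : Bool}

/-- no involution of an abelian Sylow subgroup is fixed by its normaliser -/
theorem no_fix (h : BD L T g) {R : Subgroup G} (hR : SylIn (L a i) R) (hab : ∀ x ∈ R, ∀ y ∈ R, x * y = y * x)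
    {z : G} (hz : z ∈ R) (hz2 : z * z = 1) (hfix : ∀ n ∈ L a i, cj n R = R → n * z = z * n) : z = 1 := by
  by_contra hz1
  have hzL := hR.le hz
  obtain ⟨l, hl, hlz, hlc⟩ := h.zst a i z hzL hz2 hz1
  obtain ⟨w0, hw0⟩ : ∃ w0, w0 = l * z * l⁻¹ := ⟨_, rfl⟩
  rw [← hw0] at hlz hlc
  have hRC : R ≤ L a i ⊓ Subgroup.centralizer {z} := by
    refine le_inf hR.le ?_
    intro s hs
    rw [Subgroup.mem_centralizer_singleton_iff]
    exact hab s hs z hz
  have hRCs : SylIn (L a i ⊓ Subgroup.centralizer {z}) R := hR.mono inf_le_left hRC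
  have hw0p : IsPGroup 2 (Subgroup.zpowers w0) := by
    have := isPGroup_cj (isPGroup_zpowers hR.two hz) l
    refine this.to_le ?_
    rw [Subgroup.zpowers_le, mem_cj, hw0]
    have : l⁻¹ * (l * z * l⁻¹) * l = z := by group
    rw [this]
    exact Subgroup.mem_zpowers z
  obtain ⟨d, hd, hdw⟩ := hRCs.conj (Q := Subgroup.zpowers w0) (by
    rw [Subgroup.zpowers_le, Subgroup.mem_inf, Subgroup.mem_centralizer_singleton_iff, hw0]
    refine ⟨mul_mem (mul_mem hl hzL) (inv_mem hl), ?_⟩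
    rw [← hw0]
    exact hlc.symm) hw0p
  have h4 := hdw w0 (Subgroup.mem_zpowers w0)
  have h5 : d * l * z * (d * l)⁻¹ = d * w0 * d⁻¹ := by rw [hw0]; group
  obtain ⟨n, hn, hnR, hnz⟩ := hR.burnside (z := z) (w := d * w0 * d⁻¹) (fun s hs => hab z hz s hs)
    (fun s hs => hab _ h4 s hs) (mul_mem hd.1 hl) h5
  rw [hfix n hn hnR] at hnz
  have h6 : z = d * w0 * d⁻¹ := by rw [← hnz]; group
  apply hlz
  have h7 := Subgroup.mem_centralizer_singleton_iff.mp hd.2
  calc w0 = d⁻¹ * (d * w0 * d⁻¹) * d := by group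
    _ = d⁻¹ * (z * d) := by rw [← h6]; group
    _ = d⁻¹ * (d * z) := by rw [h7]
    _ = z := by group

/-- **(6)**: `|P| ≤ 2` -/
theorem card_le_two (h : BD L T g) (a i : Bool) : Nat.card ↥(T ⊓ L a i) ≤ 2 := by
  by_contra hcard
  push Not at hcard
  obtain ⟨b, hab⟩ := exists_ne a
  obtain ⟨c, hc⟩ : ∃ c, c = g a i := ⟨_, rfl⟩
  have hsq : ∀ x ∈ T, x ∈ L a i → x * x = 1 := h.elem hcard
  obtain ⟨R, hR, hRT, hgR, hPR⟩ := h.exists_R a i
  have hgrow := h.grow hcard hR.two hR.le hRT hgR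
  have hcL : c ∈ L a i := by rw [hc]; exact h.gm a i
  have hcT : c ∉ T := by rw [hc]; exact h.gn a i
  have hcc : c * c ∈ T := by rw [hc]; exact h.gs a i
  rw [← hc] at hgrow hgR
  have hRcase : ∀ x ∈ R, (x ∈ T ∧ x ∈ L a i) ∨ (c⁻¹ * x ∈ T ∧ c⁻¹ * x ∈ L a i) := by
    intro x hx
    rcases hgrow x hx with h1 | h1
    · exact Or.inl ⟨h1, hR.le hx⟩
    · exact Or.inr ⟨h1, mul_mem (inv_mem hcL) (hR.le hx)⟩
  have hcP : ∀ x ∈ T, x ∈ L a i → c * x = x * c := by
    intro x hx hxL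
    have h1 := h.g_inv a i hx hxL
    rw [inv_of_sq (hsq x hx hxL), ← hc] at h1
    exact mul_inv_eq_iff_eq_mul.mp h1
  -- `R` is abelian
  have hRab : ∀ x ∈ R, ∀ y ∈ R, x * y = y * x := by
    have h1 : ∀ x ∈ T, x ∈ L a i → ∀ y ∈ R, x * y = y * x := by
      intro x hx hxL y hy
      rcases hRcase y hy with h2 | h2
      · exact h.cT hx hxL h2.1 h2.2
      · have h3 : x * (c⁻¹ * y) = (c⁻¹ * y) * x := h.cT hx hxL h2.1 h2.2
        calc x * y = (x * c) * (c⁻¹ * y) := by group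
          _ = c * (x * (c⁻¹ * y)) := by rw [← hcP x hx hxL]; group
          _ = _ := by rw [h3]; group
    intro x hx y hy
    rcases hRcase x hx with h2 | h2
    · exact h1 x h2.1 h2.2 y hy
    · have h3 : (c⁻¹ * x) * y = y * (c⁻¹ * x) := h1 _ h2.1 h2.2 y hy
      have h4 : c * y = y * c := by
        rcases hRcase y hy with h5 | h5
        · exact hcP y h5.1 h5.2
        · have h6 := hcP _ h5.1 h5.2
          calc c * y = c * (c * (c⁻¹ * y)) := by group
            _ = c * ((c⁻¹ * y) * c) := by rw [h6]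
            _ = _ := by group
      calc x * y = c * ((c⁻¹ * x) * y) := by group
        _ = c * (y * (c⁻¹ * x)) := by rw [h3]
        _ = (c * y) * (c⁻¹ * x) := by group
        _ = (y * c) * (c⁻¹ * x) := by rw [h4]
        _ = _ := by group
  -- complement elements
  have hcompl : ∀ x ∈ R, x ∉ T → ∀ y ∈ R, y ∉ T → x * y⁻¹ ∈ T := by
    intro x hx hxT y hy hyT
    rcases hRcase x hx with h1 | h1
    · exact absurd h1.1 hxT
    · rcases hRcase y hy with h2 | h2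
      · exact absurd h2.1 hyT
      · have h3 : x * y⁻¹ = c * ((c⁻¹ * x) * (c⁻¹ * y)⁻¹) * c⁻¹ := by group
        rw [h3, hc]
        rw [hc] at h1 h2
        exact h.g_conj a i (mul_mem h1.1 (inv_mem h2.1))
  have hodd := odd_act hR hRab
  -- Fact B
  obtain ⟨n, hn, hnR, x1, hx1T, hx1L, hx1n⟩ : ∃ n ∈ L a i, cj n R = R ∧ ∃ x ∈ T, x ∈ L a i ∧ n * x * n⁻¹ ∉ T := by
    by_contra hcon
    push Not at hcon
    letI : CommGroup R := { (inferInstance : Group R) with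
      mul_comm := fun x y => Subtype.ext (hRab x x.2 y y.2) }
    have hcop : (Nat.card (act R (L a i))).Coprime (Nat.card R) := by
      obtain ⟨m, hm⟩ := (IsPGroup.iff_card (p := 2)).mp hR.two
      rw [hm]
      refine Nat.Coprime.pow_right m ?_
      exact ((Nat.Prime.coprime_iff_not_dvd Nat.prime_two).mpr hodd).symm
    obtain ⟨f, w, hf, hw, hfw⟩ := Lib.CoprimeAbelian.exists_fixed_mul (act R (L a i)).subtype hcop ⟨c, hgR⟩
    have hwT : (w : G) ∈ T := by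
      have hle : (Subgroup.closure {w : R | ∃ σ u, w = (act R (L a i)).subtype σ u * u⁻¹}) ≤ T.comap R.subtype := by
        rw [Subgroup.closure_le]
        rintro w ⟨⟨σ, hσ⟩, u, rfl⟩
        obtain ⟨n, hn, hnR, hσn⟩ := mem_act.mp hσ
        rw [SetLike.mem_coe, Subgroup.mem_comap]
        change ((σ u : R) : G) * ((u : R) : G)⁻¹ ∈ T
        rw [hσn]
        have hnu : n * u * n⁻¹ ∈ R := conj_mem_of_cj hnR u.2
        by_cases hu : (u : G) ∈ T
        · exact mul_mem (hcon n hn hnR u hu (hR.le u.2)) (inv_mem hu)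
        · refine hcompl _ hnu ?_ u u.2 hu
          intro h1
          apply hu
          have h2 := hcon n⁻¹ (inv_mem hn) (cj_inv_eq hnR) _ h1 (hR.le hnu)
          have h3 : n⁻¹ * (n * u * n⁻¹) * n⁻¹⁻¹ = u := by group
          rwa [h3] at h2
      exact hle hw
    have hfc : (f : G) * w = c := congrArg Subtype.val hfw
    have hfT : (f : G) ∉ T := by
      intro h1
      apply hcT
      rw [← hfc]
      exact mul_mem h1 hwT
    have hffix : ∀ n ∈ L a i, cj n R = R → n * f = f * n := by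
      intro n hn hnR
      have h1 := hf ⟨au hnR, au_mem hnR hn⟩
      have h2 : n * f * n⁻¹ = (f : G) := congrArg Subtype.val h1
      exact mul_inv_eq_iff_eq_mul.mp h2
    have hff : (f : G) * f ∈ T := by
      rcases hRcase f f.2 with h1 | h1
      · exact absurd h1.1 hfT
      · have h2 := hcP _ h1.1 h1.2
        have h3 : (f : G) * f = (c * c) * ((c⁻¹ * f) * (c⁻¹ * f)) := by
          calc (f : G) * f = c * (c⁻¹ * f) * (c * (c⁻¹ * f)) := by group
            _ = c * ((c⁻¹ * f) * c) * (c⁻¹ * f) := by group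
            _ = c * (c * (c⁻¹ * f)) * (c⁻¹ * f) := by rw [h2]
            _ = _ := by group
        rw [h3]
        exact mul_mem hcc (mul_mem h1.1 h1.1)
    have hffL : (f : G) * f ∈ L a i := mul_mem (hR.le f.2) (hR.le f.2)
    have hff1 : (f : G) * f = 1 := by
      refine h.no_fix hR hRab (mul_mem f.2 f.2) (hsq _ hff hffL) ?_
      intro n hn hnR
      have h1 : Commute n (f : G) := hffix n hn hnR
      exact (h1.mul_right h1).eq
    have hf1 : (f : G) = 1 := h.no_fix hR hRab f.2 hff1 hffix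
    apply hfT
    rw [hf1]; exact one_mem _
  -- the transvections
  have hn'R : cj n⁻¹ R = R := cj_inv_eq hnR
  have hinR : ∀ x ∈ R, n⁻¹ * x * n ∈ R := by
    intro x hx
    have := conj_mem_of_cj hn'R hx
    rwa [inv_inv] at this
  obtain ⟨b0, hb0T, hb0L, hb0n, hb01⟩ : ∃ b0 ∈ T, b0 ∈ L a i ∧ n⁻¹ * b0 * n ∈ T ∧ b0 ≠ 1 := by
    by_contra hcon
    push Not at hcon
    have hcl3 : ∀ p ∈ T, p ∈ L a i → p ≠ 1 → ∀ q ∈ T, q ∈ L a i → q ≠ 1 → p = q := by
      intro p hp hpL hp1 q hq hqL hq1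
      have hpn : n⁻¹ * p * n ∉ T := fun h1 => hp1 (hcon p hp hpL h1)
      have hqn : n⁻¹ * q * n ∉ T := fun h1 => hq1 (hcon q hq hqL h1)
      have h1 := hcompl _ (hinR p (hPR ⟨hp, hpL⟩)) hpn _ (hinR q (hPR ⟨hq, hqL⟩)) hqn
      have h2 : (n⁻¹ * p * n) * (n⁻¹ * q * n)⁻¹ = n⁻¹ * (p * q⁻¹) * n := by group
      rw [h2] at h1
      exact mul_inv_eq_one.mp (hcon _ (mul_mem hp (inv_mem hq)) (mul_mem hpL (inv_mem hqL)) h1)
    obtain ⟨p0, hp0, hp01⟩ := h.P_ne a i
    have h7 : ((T ⊓ L a i : Subgroup G) : Set G) ⊆ {1, p0} := by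
      intro x hx
      by_cases hx1 : x = 1
      · left; exact hx1
      · right; exact hcl3 x hx.1 hx.2 hx1 p0 hp0.1 hp0.2 hp01
    have h8 : Nat.card ↥(T ⊓ L a i) ≤ 2 := by
      calc Nat.card ↥(T ⊓ L a i) = ((T ⊓ L a i : Subgroup G) : Set G).ncard := rfl
        _ ≤ ({1, p0} : Set G).ncard := Set.ncard_le_ncard h7 (Set.toFinite _)
        _ ≤ 2 := by
          refine (Set.ncard_insert_le _ _).trans ?_
          rw [Set.ncard_singleton]
    omega
  have hb0R : b0 ∈ R := hPR ⟨hb0T, hb0L⟩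
  have hb0sq : b0 * b0 = 1 := hsq b0 hb0T hb0L
  have hb0nL : n⁻¹ * b0 * n ∈ L a i := mul_mem (mul_mem (inv_mem hn) hb0L) hn
  -- the element `e b` inducing the transvection with centre `b`
  have htrans : ∀ b1 ∈ T, b1 ∈ L a i → ∃ e ∈ T, e ∈ L b i ∧ (∀ x ∈ R, x ∈ T → e * x * e⁻¹ = x) ∧
      (∀ x ∈ R, x ∉ T → e * x * e⁻¹ = b1 * x) := by
    intro b1 hb1 hb1L
    obtain ⟨e, he, heL, heb⟩ := h.cm_surj hab i i hb1 hb1L
    rw [← hc] at heb
    have h1 : ∀ x ∈ R, x ∈ T → e * x * e⁻¹ = x := by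
      intro x hx hxT
      have : e * x = x * e := h.cT he heL hxT (hR.le hx)
      rw [this]; group
    have h2 : e * c * e⁻¹ = b1 * c := by
      have h3 : b1 * e = e * b1 := h.cT hb1 hb1L he heL
      have h4 : c * e = b1 * e * c := by rw [← heb, commutatorElement_def]; group
      have h5 : b1⁻¹ = b1 := inv_of_sq (hsq b1 hb1 hb1L)
      calc e * c * e⁻¹ = b1⁻¹ * ((b1 * e) * c) * e⁻¹ := by group
        _ = b1⁻¹ * (c * e) * e⁻¹ := by rw [h4]
        _ = b1 * c := by rw [h5]; group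
    refine ⟨e, he, heL, h1, ?_⟩
    intro x hx hxT
    rcases hRcase x hx with h3 | h3
    · exact absurd h3.1 hxT
    · have h4 := h1 _ (hPR h3) h3.1
      calc e * x * e⁻¹ = (e * c * e⁻¹) * (e * (c⁻¹ * x) * e⁻¹) := by group
        _ = b1 * x := by rw [h2, h4]; group
  obtain ⟨e, he, heL, heT, heN⟩ := htrans b0 hb0T hb0L
  obtain ⟨e', he', he'L, he'T, he'N⟩ := htrans _ hb0n hb0nL
  have heR : cj e R = R := hRT e he
  have he'R : cj e' R = R := hRT e' he'
  obtain ⟨α, hα⟩ : ∃ α, α = au heR := ⟨_, rfl⟩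
  obtain ⟨ν, hν⟩ : ∃ ν, ν = au hnR := ⟨_, rfl⟩
  obtain ⟨β, hβ⟩ : ∃ β, β = ν * au he'R * ν⁻¹ := ⟨_, rfl⟩
  have hαT : ∀ x : R, (x : G) ∈ T → ((α x : R) : G) = x := by
    intro x hx
    rw [hα, au_apply]
    exact heT x x.2 hx
  have hαN : ∀ x : R, (x : G) ∉ T → ((α x : R) : G) = b0 * x := by
    intro x hx
    rw [hα, au_apply]
    exact heN x x.2 hx
  have hνi : ∀ x : R, ((ν⁻¹ x : R) : G) = n⁻¹ * x * n := by
    intro x
    have h1 : ν (ν⁻¹ x) = x := by rw [← MulAut.mul_apply, mul_inv_cancel, MulAut.one_apply]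
    have h2 : n * ((ν⁻¹ x : R) : G) * n⁻¹ = x := by
      have := congrArg Subtype.val h1
      rwa [hν, au_apply, ← hν] at this
    rw [← h2]; group
  have hβT : ∀ x : R, n⁻¹ * x * n ∈ T → ((β x : R) : G) = x := by
    intro x hx
    rw [hβ, MulAut.mul_apply, MulAut.mul_apply, hν, au_apply, au_apply, ← hν, hνi,
      he'T _ (hinR x x.2) hx]
    group
  have hβN : ∀ x : R, n⁻¹ * x * n ∉ T → ((β x : R) : G) = b0 * x := by
    intro x hx
    rw [hβ, MulAut.mul_apply, MulAut.mul_apply, hν, au_apply, au_apply, ← hν, hνi,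
      he'N _ (hinR x x.2) hx]
    group
  have hαb : α ⟨b0, hb0R⟩ = ⟨b0, hb0R⟩ := Subtype.ext (hαT ⟨b0, hb0R⟩ hb0T)
  have hβb : β ⟨b0, hb0R⟩ = ⟨b0, hb0R⟩ := Subtype.ext (hβT ⟨b0, hb0R⟩ hb0n)
  have hb0b : (⟨b0, hb0R⟩ : R) * ⟨b0, hb0R⟩ = 1 := Subtype.ext hb0sq
  have hαc : ∀ x : R, α x = x ∨ α x = ⟨b0, hb0R⟩ * x := by
    intro x
    by_cases hx : (x : G) ∈ T
    · exact Or.inl (Subtype.ext (hαT x hx))
    · exact Or.inr (Subtype.ext (hαN x hx))
  have hβc : ∀ x : R, β x = x ∨ β x = ⟨b0, hb0R⟩ * x := by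
    intro x
    by_cases hx : n⁻¹ * (x : G) * n ∈ T
    · exact Or.inl (Subtype.ext (hβT x hx))
    · exact Or.inr (Subtype.ext (hβN x hx))
  have hα2 : α * α = 1 := by
    ext x
    rw [MulAut.mul_apply, MulAut.one_apply]
    rcases hαc x with h1 | h1
    · rw [h1, h1]
    · rw [h1, map_mul, hαb, h1, ← mul_assoc, hb0b, one_mul]
  have hβ2 : β * β = 1 := by
    ext x
    rw [MulAut.mul_apply, MulAut.one_apply]
    rcases hβc x with h1 | h1
    · rw [h1, h1]
    · rw [h1, map_mul, hβb, h1, ← mul_assoc, hb0b, one_mul]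
  have hαβ : α * β = β * α := by
    ext x
    rw [MulAut.mul_apply, MulAut.mul_apply]
    rcases hαc x with h1 | h1 <;> rcases hβc x with h2 | h2
    · rw [h1, h2, h1]
    · rw [h1, h2, map_mul, hαb, h1]
    · rw [h2, h1, map_mul, hβb, h2]
    · rw [h1, h2, map_mul, map_mul, hαb, hβb, h1, h2]
  have hzs : ∀ γ : MulAut R, γ * γ = 1 → ∀ δ ∈ Subgroup.zpowers γ, δ * δ = 1 := by
    intro γ hγ δ hδ
    obtain ⟨m, rfl⟩ := Subgroup.mem_zpowers_iff.mp hδ
    rw [← zpow_add, ← two_mul, zpow_mul]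
    have : γ ^ (2 : ℤ) = 1 := by rw [zpow_ofNat, pow_two]; exact hγ
    rw [this, one_zpow]
  have hcomm : ∀ p ∈ Subgroup.zpowers α, ∀ w ∈ Subgroup.zpowers β, p * w = w * p := by
    intro p hp w hw
    obtain ⟨m, rfl⟩ := Subgroup.mem_zpowers_iff.mp hp
    obtain ⟨m', rfl⟩ := Subgroup.mem_zpowers_iff.mp hw
    have : Commute α β := hαβ
    exact ((this.zpow_left m).zpow_right m').eq
  let Q := mulSub (Subgroup.zpowers α) (Subgroup.zpowers β) (comm_cj hcomm)
  have hQ : IsPGroup 2 Q := isPGroup_of_sq (sq_mulSub hcomm (hzs α hα2) (hzs β hβ2))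
  -- `E` acts
  have hEodd : ∀ σ ∈ act R (T ⊓ L b i), cj σ (act R (L a i)) = act R (L a i) := by
    intro σ hσ
    obtain ⟨x, hx, hxR, hσx⟩ := mem_act.mp hσ
    have hσ' : σ = au hxR := by
      ext r
      rw [hσx, au_apply]
    refine Subgroup.eq_of_le_of_card_ge ?_ (card_cj σ _).ge
    intro τ hτ
    rw [mem_cj] at hτ
    obtain ⟨y, hy, hyR, hτy⟩ := mem_act.mp hτ
    have h1 : σ⁻¹ * τ * σ = au hyR := by
      ext r
      rw [hτy, au_apply]
    have hxyR : cj (x * y * x⁻¹) R = R := cj_mul_eq (cj_mul_eq hxR hyR) (cj_inv_eq hxR)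
    have h2 : τ = au hxyR := by
      have h3 : τ = σ * au hyR * σ⁻¹ := by rw [← h1]; group
      have h4 : ∀ r : R, ((σ⁻¹ r : R) : G) = x⁻¹ * r * x := by
        intro r
        have h1 : σ (σ⁻¹ r) = r := by rw [← MulAut.mul_apply, mul_inv_cancel, MulAut.one_apply]
        have h2 : x * ((σ⁻¹ r : R) : G) * x⁻¹ = r := by
          have := congrArg Subtype.val h1
          rwa [hσx] at this
        rw [← h2]; group
      ext r
      rw [h3, MulAut.mul_apply, MulAut.mul_apply, hσx, au_apply, h4, au_apply]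
      group
    rw [h2]
    refine au_mem hxyR ?_
    exact conj_mem_of_cj (h.nrm x hx.1 a i) hy
  have hE2 : IsPGroup 2 (act R (T ⊓ L b i)) := by
    have h1 : IsPGroup 2 ((T ⊓ L b i).subgroupOf (Subgroup.normalizer (R : Set G))) :=
      (h.two.to_le inf_le_left).comap_subtype
    exact h1.map _
  let Y := mulSub (act R (L a i)) (act R (T ⊓ L b i)) hEodd
  have hSyl : SylIn Y (act R (T ⊓ L b i)) := by
    obtain ⟨S', hS', hSS'⟩ := SylIn.exists_le hE2 (le_mulSub_right : act R (T ⊓ L b i) ≤ Y)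
    have h1 : S' ≤ act R (T ⊓ L b i) := by
      intro s hs
      obtain ⟨κ, hκ, w, hw, e1⟩ := hS'.le hs
      have h2 : κ ∈ S' := by
        have : κ = s * w⁻¹ := by rw [e1]; group
        rw [this]
        exact mul_mem hs (inv_mem (hSS' hw))
      have h3 : κ = 1 := by
        by_contra hκ1
        obtain ⟨m, hm2, hm1⟩ := exists_pow_inv hS'.two h2 hκ1
        apply hodd
        have h4 : orderOf (κ ^ m) = 2 := orderOf_eq_prime (by rw [pow_two]; exact hm2) hm1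
        have h5 : orderOf (⟨κ ^ m, pow_mem hκ m⟩ : act R (L a i)) = 2 := by
          rw [← h4]
          exact (orderOf_injective (act R (L a i)).subtype (Subgroup.subtype_injective _) ⟨κ ^ m, pow_mem hκ m⟩).symm
        rw [← h5]
        exact orderOf_dvd_natCard _
      rw [e1, h3, one_mul]
      exact hw
    have h2 : act R (T ⊓ L b i) = S' := le_antisymm hSS' h1
    rw [h2]; exact hS'
  -- only `P` is fixed
  have hfixE : ∀ σ ∈ act R (T ⊓ L b i), σ ≠ 1 → ∀ x : R, σ x = x → (x : G) ∈ T := by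
    intro σ hσ hσ1 x hx
    obtain ⟨y, hy, hyR, hσy⟩ := mem_act.mp hσ
    have hy1 : y ≠ 1 := by
      rintro rfl
      apply hσ1
      ext r
      rw [hσy]; simp
    have h1 : y * x * y⁻¹ = (x : G) := by
      rw [← hσy, hx]
    have h2 : (x : G) * y = y * x := (mul_inv_eq_iff_eq_mul.mp h1).symm
    have hS : IsPGroup 2 (mulSub R T hRT) := isPGroup_mulSub hR.two h.two
    exact h.mem_T_of_comm hS le_mulSub_right hab (le_mulSub_left x.2) (hR.le x.2) hy.1 hy.2 hy1 h2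
  have hαE : α ∈ act R (T ⊓ L b i) := by rw [hα]; exact au_mem heR ⟨he, heL⟩
  have hνN : ν ∈ act R (L a i) := by rw [hν]; exact au_mem hnR hn
  have hβY : β ∈ Y := by
    rw [hβ]
    refine mul_mem (mul_mem (le_mulSub_left hνN) (le_mulSub_right ?_)) (inv_mem (le_mulSub_left hνN))
    exact au_mem he'R ⟨he', he'L⟩
  have hQY : Q ≤ Y := by
    refine mulSub_le ?_ ?_
    · rw [Subgroup.zpowers_le]; exact le_mulSub_right hαE
    · rw [Subgroup.zpowers_le]; exact hβY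
  obtain ⟨κ, hκ, hκQ⟩ := hSyl.conj hQY hQ
  have hκα := hκQ α (le_mulSub_left (Subgroup.mem_zpowers α))
  have hκβ := hκQ β (le_mulSub_right (Subgroup.mem_zpowers β))
  have hα1 : α ≠ 1 := by
    intro h1
    have h2 := hαN ⟨c, hgR⟩ hcT
    rw [h1, MulAut.one_apply] at h2
    exact hb01 (by simpa using h2.symm)
  have hβ1 : β ≠ 1 := by
    intro h1
    have h0 : n * c * n⁻¹ ∈ R := conj_mem_of_cj hnR hgR
    have h2 := hβN ⟨n * c * n⁻¹, h0⟩ (by
      have : n⁻¹ * (n * c * n⁻¹) * n = c := by group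
      rw [this]; exact hcT)
    rw [h1, MulAut.one_apply] at h2
    exact hb01 (by simpa using h2.symm)
  have hconj1 : ∀ γ : MulAut R, γ ≠ 1 → κ * γ * κ⁻¹ ≠ 1 := by
    intro γ hγ h1
    apply hγ
    calc γ = κ⁻¹ * (κ * γ * κ⁻¹) * κ := by group
      _ = 1 := by rw [h1]; group
  have hx1R : x1 ∈ R := hPR ⟨hx1T, hx1L⟩
  have hnx1R : n * x1 * n⁻¹ ∈ R := conj_mem_of_cj hnR hx1R
  -- `ν x1` is fixed by `β`
  have hfβ : β ⟨n * x1 * n⁻¹, hnx1R⟩ = ⟨n * x1 * n⁻¹, hnx1R⟩ := by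
    apply Subtype.ext
    apply hβT
    have : n⁻¹ * (n * x1 * n⁻¹) * n = x1 := by group
    change n⁻¹ * (n * x1 * n⁻¹) * n ∈ T
    rw [this]; exact hx1T
  have h1 : (κ * β * κ⁻¹) (κ ⟨n * x1 * n⁻¹, hnx1R⟩) = κ ⟨n * x1 * n⁻¹, hnx1R⟩ := by
    rw [← MulAut.mul_apply, inv_mul_cancel_right, MulAut.mul_apply, hfβ]
  have h2 := hfixE _ hκβ (hconj1 β hβ1) _ h1
  -- elements of `P` are fixed by `E`
  have h3 : (κ * α * κ⁻¹) (κ ⟨n * x1 * n⁻¹, hnx1R⟩) = κ ⟨n * x1 * n⁻¹, hnx1R⟩ := by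
    obtain ⟨y, hy, hyR, hσy⟩ := mem_act.mp hκα
    apply Subtype.ext
    rw [hσy]
    have h4 : y * ((κ ⟨n * x1 * n⁻¹, hnx1R⟩ : R) : G) = ((κ ⟨n * x1 * n⁻¹, hnx1R⟩ : R) : G) * y :=
      h.cT hy.1 hy.2 h2 (hR.le (κ ⟨n * x1 * n⁻¹, hnx1R⟩).2)
    rw [h4]; group
  have h4 : α ⟨n * x1 * n⁻¹, hnx1R⟩ = ⟨n * x1 * n⁻¹, hnx1R⟩ := by
    rw [← MulAut.mul_apply, inv_mul_cancel_right, MulAut.mul_apply] at h3
    exact κ.injective h3
  exact hx1n (hfixE α hαE hα1 _ h4)

end BD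

end Cfsg.Agent.OddHalf.D3.BTwo
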