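import Cfsg.Agent.OddHalf.D3.BTwo.Dih
import Cfsg.Agent.OddHalf.D3.NineFact
import Cfsg.Agent.OddHalf.D3.TwoBB
import Cfsg.Prelude.Def_CaseTheorems

/-!
# ODD D3 (b), `n = 2`, case (B2) (bb ODD 9609): (9) and the end
-/

set_option autoImplicit false

namespace Cfsg.Agent.OddHalf.D3.BTwo

open Cfsg.Agent.OddHalf.D3.ThreeDefs Cfsg.Agent.OddHalf.D3.ThreeFam Cfsg.Agent.OddHalf.D3.ThreeMain
  Cfsg.Agent.OddHalf.D3.ThreeEnd
open scoped commutatorElement

universe u

/-- the statement of S0483 (Gorenstein-Walter), in the universe `u` -/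
def GW : Prop := ∀ (X : Type u) [Group X] [Finite X] [Group.IsPerfect X] (S : Sylow 2 X) (n : ℕ), 2 ≤ n →
  Nonempty ((S : Subgroup X) ≃* DihedralGroup n) →
    (∃ (F : Type) (_ : Field F) (_ : Fintype F), Odd (Fintype.card F) ∧ 3 < Fintype.card F ∧
        Nonempty (X ⧸ Cfsg.oddCore X ≃* Matrix.ProjectiveSpecialLinearGroup (Fin 2) F)) ∨
      Nonempty (X ⧸ Cfsg.oddCore X ≃* alternatingGroup (Fin 7))

variable {G : Type u} [Group G]

theorem SylIn.toSylow [Finite G] {K R : Subgroup G} (h : SylIn K R) : ∃ S : Sylow 2 K, (S : Subgroup K) = R.subgroupOf K := by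
  have hR' : IsPGroup 2 (R.subgroupOf K) := h.two.comap_subtype
  obtain ⟨P, hP⟩ := hR'.exists_le_sylow
  refine ⟨P, ?_⟩
  have h1 : Nat.card ((P : Subgroup K).map K.subtype) ≤ Nat.card R :=
    h.max _ (Subgroup.map_subtype_le _) (P.isPGroup'.map _)
  have h2 : Nat.card ((P : Subgroup K).map K.subtype) = Nat.card (P : Subgroup K) :=
    Nat.card_congr ((P : Subgroup K).equivMapOfInjective _ (Subgroup.subtype_injective K)).symm.toEquiv
  have h3 : Nat.card (R.subgroupOf K) = Nat.card R := Nat.card_congr (Subgroup.subgroupOfEquivOfLe h.le).toEquiv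
  symm
  exact Subgroup.eq_of_le_of_card_ge hP (by rw [← h2, h3]; exact h1)

/-- recognition of a simple group with dihedral Sylow 2-subgroups -/
theorem recog (hgw : GW.{u}) {K : Type u} [Group K] [Finite K] (hs : IsSimpleGroup K)
    (hna : ∃ x y : K, x * y ≠ y * x) (h2 : 2 ∣ Nat.card K) (S : Sylow 2 K) (n : ℕ) (hn : 2 ≤ n)
    (hS : Nonempty ((S : Subgroup K) ≃* DihedralGroup n)) :
    (∃ (F : Type) (_ : Field F) (_ : Fintype F), Odd (Fintype.card F) ∧ 5 ≤ Fintype.card F ∧
      Nonempty (K ≃* Matrix.ProjectiveSpecialLinearGroup (Fin 2) F)) ∨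
      Nonempty (K ≃* ↥(alternatingGroup (Fin 7))) := by
  have hperf : Group.IsPerfect K := by
    constructor
    rcases hs.eq_bot_or_eq_top_of_normal (commutator K) inferInstance with h | h
    · exfalso
      obtain ⟨x, y, hxy⟩ := hna
      have h1 : ⁅x, y⁆ ∈ commutator K := Subgroup.commutator_mem_commutator (Subgroup.mem_top _) (Subgroup.mem_top _)
      rw [h, Subgroup.mem_bot] at h1
      exact hxy (comm_eq_one h1)
    · exact h
  have hO : Cfsg.oddCore K = ⊥ := by
    refine (sSup_eq_bot).2 ?_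
    rintro N ⟨hN, hc⟩
    rcases hs.eq_bot_or_eq_top_of_normal N hN with h | h
    · exact h
    · exfalso
      subst h
      rw [Subgroup.card_top] at hc
      have := Nat.Coprime.eq_one_of_dvd (Nat.Coprime.symm hc) h2
      omega
  have e : (K ⧸ Cfsg.oddCore K) ≃* K :=
    (QuotientGroup.quotientMulEquivOfEq hO).trans QuotientGroup.quotientBot
  rcases hgw K S n hn hS with ⟨F, hF, hF', hodd, h3, ⟨f⟩⟩ | ⟨⟨f⟩⟩
  · left
    refine ⟨F, hF, hF', hodd, ?_, ⟨e.symm.trans f⟩⟩
    obtain ⟨m, hm⟩ := hodd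
    omega
  · right
    exact ⟨e.symm.trans f⟩

variable {L : Bool → Bool → Subgroup G} {T : Subgroup G} {g : Bool → Bool → G}

namespace BD

variable [Finite G]

/-- `T` is Sylow in `NL L` -/
theorem sylNL (h : BD L T g) : SylIn (NL L) T := by
  obtain ⟨T', hT', hTT'⟩ := SylIn.exists_le h.two h.T_le
  have h1 : T' ≤ T := h.max T' hT'.two hTT' (fun q hq => hT'.le hq)
  have h2 : T = T' := le_antisymm hTT' h1
  rw [h2]; exact hT'

/-- **the end of (B2)** -/
theorem contra (h : BD L T g) (hgw : GW.{u}) (hs : IsSimpleGroup (L false false)) : False := by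
  haveI : Fact (Nat.Prime 2) := ⟨Nat.prime_two⟩
  obtain ⟨a, i, b, k, k', i', hab, hk, hi, hsa⟩ : ∃ a i b k k' i' : Bool, a ≠ b ∧ k ≠ k' ∧ i ≠ i' ∧
      IsSimpleGroup (L a i) := ⟨false, false, true, false, true, true, by decide, by decide, by decide, hs⟩
  obtain ⟨R, hR, hRT, hgR, hPR⟩ := h.exists_R a i
  obtain ⟨m, hm, ⟨ε⟩⟩ := h.dihedral hR hRT hgR hPR
  obtain ⟨S, hS⟩ := hR.toSylow
  obtain ⟨z, hz, hzL, hz2, hz1⟩ := h.exists_inv a i
  obtain ⟨l, hl, hlz, -⟩ := h.zst a i z hzL hz2 hz1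
  have hrec := recog hgw hsa ⟨⟨l, hl⟩, ⟨z, hzL⟩, fun h0 => hlz (by
      have h1 : l * z = z * l := congrArg Subtype.val h0
      rw [h1]; group)⟩ (by
      have h1 : orderOf (⟨z, hzL⟩ : L a i) = 2 := by
        rw [Subgroup.orderOf_mk]
        exact orderOf_eq_prime (by rw [pow_two]; exact hz2) hz1
      rw [← h1]
      exact orderOf_dvd_natCard _) S m hm ⟨by rw [hS]; exact (Subgroup.subgroupOfEquivOfLe hR.le).trans ε⟩
  -- the elements `e1`, `e2`
  obtain ⟨e1, he1⟩ : ∃ e1, e1 = ⁅g b k, z⁆ := ⟨_, rfl⟩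
  obtain ⟨e2, he2⟩ : ∃ e2, e2 = ⁅g b k', z⁆ := ⟨_, rfl⟩
  have he1T : e1 ∈ T := by rw [he1]; exact h.cm_T hz b k
  have he1L : e1 ∈ L b k := by rw [he1]; exact h.cm_L hz b k
  have he2T : e2 ∈ T := by rw [he2]; exact h.cm_T hz b k'
  have he2L : e2 ∈ L b k' := by rw [he2]; exact h.cm_L hz b k'
  have he1s : e1 * e1 = 1 := h.sq_one he1T he1L
  have he11 : e1 ≠ 1 := by
    rw [he1]
    intro h0
    exact hz1 ((h.cm_one (Ne.symm hab) hz hzL).mp h0)
  have he21 : e2 ≠ 1 := by
    rw [he2]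
    intro h0
    exact hz1 ((h.cm_one (Ne.symm hab) hz hzL).mp h0)
  have hr1 : ⁅g a i, e1⁆ = z := by rw [he1]; exact (h.coord hab hk hi hz hzL).1
  have hr2 : ⁅g a i, e2⁆ = z := by rw [he2]; exact (h.coord hab (Ne.symm hk) hi hz hzL).1
  -- the involution `z2`
  obtain ⟨z2, hz2'⟩ : ∃ z2, z2 = g b k * g b k' * z * (g b k * g b k')⁻¹ := ⟨_, rfl⟩
  have hz2T : z2 ∈ T := by rw [hz2']; exact h.j_T hz
  have hz2L : z2 ∈ L a i' := by rw [hz2']; exact h.j_L hab hk hi hzL
  have hz2e : e1 * e2 * z = z2 := by rw [hz2', h.j_conj hk hz, he1, he2]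
  have hK : cj e1 (L a i) = L a i := h.nrm e1 he1T a i
  refine NineFact.nine_card hrec (u := au hK) ?_ ?_ ((Subgroup.centralizer {e1}).subgroupOf (L a i)) ?_ ?_
    (z := ⟨z, hzL⟩) (Subtype.ext hz2) (fun h0 => hz1 (congrArg Subtype.val h0)) ?_ ?_
  · -- `u * u = 1`
    ext r
    rw [MulAut.mul_apply, au_apply, au_apply, MulAut.one_apply]
    calc e1 * (e1 * r * e1⁻¹) * e1⁻¹ = (e1 * e1) * r * (e1 * e1)⁻¹ := by group
      _ = r := by rw [he1s]; group
  · -- `u ≠ 1`
    intro h0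
    have h1 : ((au hK ⟨g a i, h.gm a i⟩ : L a i) : G) = g a i := by rw [h0]; rfl
    rw [au_apply] at h1
    have h2 : e1 * g a i = g a i * e1 := mul_inv_eq_iff_eq_mul.mp h1
    exact he11 ((h.cm_one hab he1T he1L).mp (comm_one_of h2.symm))
  · intro x hx
    rw [Subgroup.mem_subgroupOf, Subgroup.mem_centralizer_singleton_iff]
    have h1 : ((au hK x : L a i) : G) = x := by rw [hx]
    rw [au_apply] at h1
    exact (mul_inv_eq_iff_eq_mul.mp h1).symm
  · -- the 2-part of the centralizer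
    intro h4
    obtain ⟨Q, hQ⟩ := Sylow.exists_subgroup_card_pow_prime 2 (n := 2) (G := ((Subgroup.centralizer {e1}).subgroupOf (L a i))) h4
    let Q0 : Subgroup G := (Q.map ((Subgroup.centralizer {e1}).subgroupOf (L a i)).subtype).map (L a i).subtype
    have hQ0 : ∀ q ∈ Q0, q ∈ L a i ∧ q * e1 = e1 * q := by
      rintro _ ⟨_, ⟨q, -, rfl⟩, rfl⟩
      refine ⟨(q : L a i).2, ?_⟩
      have := q.2
      rw [Subgroup.mem_subgroupOf, Subgroup.mem_centralizer_singleton_iff] at this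
      exact this
    have hQ0c : Nat.card Q0 = 4 := by
      rw [Nat.card_congr ((Q.map ((Subgroup.centralizer {e1}).subgroupOf (L a i)).subtype).equivMapOfInjective _
        (Subgroup.subtype_injective _)).symm.toEquiv, Nat.card_congr (Q.equivMapOfInjective _
        (Subgroup.subtype_injective _)).symm.toEquiv, hQ]
      norm_num
    have hQ02 : IsPGroup 2 Q0 := IsPGroup.of_card (n := 2) (by rw [hQ0c]; norm_num)
    have hQ0N : Q0 ≤ NL L := by
      intro q hq c l'
      obtain ⟨h1, h2⟩ := hQ0 q hq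
      by_cases hc : a = c
      · subst hc; exact h.cj_same h1 l'
      · have : b = c := bool_third hab hc
        subst this
        exact h.cen2 h.two he1T he1L he11 h2 l'
    obtain ⟨c, hc, hcQ⟩ := h.sylNL.conj hQ0N hQ02
    have h5 : cj c Q0 ≤ T ⊓ L a i := by
      intro x hx
      rw [mem_cj] at hx
      have e : c * (c⁻¹ * x * c) * c⁻¹ = x := by group
      refine ⟨by rw [← e]; exact hcQ _ hx, ?_⟩
      rw [← e]
      exact conj_mem_of_cj (hc a i) (hQ0 _ hx).1
    have h6 : Nat.card (cj c Q0) ≤ Nat.card ↥(T ⊓ L a i) :=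
      Nat.card_le_card_of_injective _ (Subgroup.inclusion_injective h5)
    rw [card_cj, hQ0c, h.card_two a i] at h6
    omega
  · -- `u z = z`
    apply Subtype.ext
    rw [au_apply]
    change e1 * z * e1⁻¹ = z
    have : e1 * z = z * e1 := h.cT he1T he1L hz hzL
    rw [this]; group
  · -- the commutators
    rintro ⟨x, hx⟩ ⟨y, hy⟩ hxu hyu
    have h1 : e1 * x * e1⁻¹ = x := congrArg Subtype.val hxu
    have h2 : z * (e1 * y * e1⁻¹) * z⁻¹ = y := congrArg Subtype.val hyu
    have h3 : x * e1 = e1 * x := (mul_inv_eq_iff_eq_mul.mp h1).symm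
    have h4 : ⁅x, z⁆ ∈ L b k' := by
      have := (h.key (Ne.symm hab) hi hk he1T he1L he11 hx h3).2
      rwa [hr1] at this
    have h5 : y * (z * e1) = (z * e1) * y := by
      have : (z * e1) * y * (z * e1)⁻¹ = y := by
        calc (z * e1) * y * (z * e1)⁻¹ = z * (e1 * y * e1⁻¹) * z⁻¹ := by group
          _ = y := h2
      exact (mul_inv_eq_iff_eq_mul.mp this).symm
    have h6 : e2 = z2 * (z * e1)⁻¹ := by
      have h7 : e1 * z2 = z2 * e1 := h.cT he1T he1L hz2T hz2L
      have h8 : e2 = e1⁻¹ * z2 * z⁻¹ := by rw [← hz2e]; group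
      rw [h8, mul_inv_rev]
      have h9 : e1⁻¹ * z2 = z2 * e1⁻¹ := by
        have : Commute e1 z2 := h7
        exact this.inv_left.eq
      rw [h9, mul_assoc]
    have h7 : y * e2 = e2 * y := by
      have h8 : y * z2 = z2 * y := h.comm a i i' hi _ hy _ hz2L
      have h9 : y * (z * e1)⁻¹ = (z * e1)⁻¹ * y := by
        have : Commute y (z * e1) := h5
        exact this.inv_right.eq
      rw [h6, ← mul_assoc, h8, mul_assoc, h9, mul_assoc]
    have h8 : ⁅y, z⁆ ∈ L b k := by
      have := (h.key (Ne.symm hab) hi (Ne.symm hk) he2T he2L he21 hy h7).2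
      rwa [hr2] at this
    apply Subtype.ext
    change ⁅x, z⁆ * ⁅y, z⁆ = ⁅y, z⁆ * ⁅x, z⁆
    exact h.comm b k' k (Ne.symm hk) _ h4 _ h8

end BD

/-! ### From the frame -/

open Cfsg.Agent.OddHalf.D3.Swap Cfsg.Agent.OddHalf.D3.TwoCfg Cfsg.Agent.OddHalf.D3.TwoNF
open Cfsg.Agent.OddHalf.D3.TwoKey

variable {𝓒 : Set (Set (Subgroup G))}

/-- `cj y A = B` maps the class of `A` to the class of `B` -/
theorem cjs_of_cj (F : Fam 𝓒) {Λ Λ' : Set (Subgroup G)} (hΛ : Λ ∈ 𝓒) (hΛ' : Λ' ∈ 𝓒) {A B : Subgroup G} (hA : A ∈ Λ)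
    (hB : B ∈ Λ') {y : G} (h : cj y A = B) : cjs y Λ = Λ' := by
  refine class_unique F (F.conj y Λ hΛ) hΛ' (A := B) ?_ hB
  rw [← h]
  exact cj_mem_cjs hA

/-- the other members -/
theorem cj_other (F : Fam2 𝓒) {Λ Λ' : Set (Subgroup G)} (hΛ : Λ ∈ 𝓒) (hΛ' : Λ' ∈ 𝓒) {A A' B B' : Subgroup G}
    (hA : A ∈ Λ) (hA' : A' ∈ Λ) (hAA : A ≠ A') (hB : B ∈ Λ') (hB' : B' ∈ Λ') (hBB : B ≠ B') {y : G}
    (h : cj y A = B) : cj y A' = B' := by
  have h1 := cjs_of_cj F.toFam hΛ hΛ' hA hB h
  have h2 : cj y A' ∈ Λ' := by rw [← h1]; exact cj_mem_cjs hA'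
  have h3 : cj y A' ≠ B := by
    rw [← h]
    intro h0
    exact hAA (cj_injective y h0).symm
  rcases F.le2 Λ' hΛ' B hB B' hB' (cj y A') h2 with h4 | h4 | h4
  · exact absurd h4 hBB
  · exact absurd h4.symm h3
  · exact h4.symm

/-- fusion of an involution -/
theorem cj_of_fus (F : Fam2 𝓒) {Λ Λ' : Set (Subgroup G)} (hΛ : Λ ∈ 𝓒) (hΛ' : Λ' ∈ 𝓒) {A B : Subgroup G} (hA : A ∈ Λ)
    (hB : B ∈ Λ') {x y : G} (hx : x ∈ A) (hx2 : x * x = 1) (hx1 : x ≠ 1) (h : y * x * y⁻¹ ∈ B) : cj y A = B := by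
  have h2 : y * x * y⁻¹ * (y * x * y⁻¹) = 1 := by
    calc y * x * y⁻¹ * (y * x * y⁻¹) = y * (x * x) * y⁻¹ := by group
      _ = 1 := by rw [hx2]; group
  have h1 : y * x * y⁻¹ ≠ 1 := by
    intro h0
    apply hx1
    calc x = y⁻¹ * (y * x * y⁻¹) * y := by group
      _ = 1 := by rw [h0]; group
  have e : cjs y Λ = Λ' := F.uniq _ (F.conj y Λ hΛ) Λ' hΛ' (y * x * y⁻¹)
    ((F.inU_of_mem hΛ hA hx hx2 hx1).conj y) (F.inU_of_mem hΛ' hB h h2 h1)
  have h3 : cj y A ∈ Λ' := by rw [← e]; exact cj_mem_cjs hA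
  by_contra hne
  exact h1 (F.inter_same hΛ' h3 hB hne (conj_mem_cj hx) h h2)

/-- **the case (B2) of the text is impossible** -/
theorem bb_false [Finite G] (hgw : GW.{u}) (F : Fam2 𝓒) {Q : Subgroup G} (C : NF 𝓒 Q) : False := by
  obtain ⟨Λ, hΛ, Λ', hΛ', hne, hQΛ, hQΛ', L1, hL1, L2, hL2, M1, hM1, M2, hM2, hL21, hM21, g1, g2, h1, h2, w1, w2, v1, v2,
    s1, s2⟩ := TwoBB.exists_conf F C
  let L : Bool → Bool → Subgroup G := fun a i => bif a then (bif i then M2 else M1) else (bif i then L2 else L1)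
  let gg : Bool → Bool → G := fun a i => bif a then (bif i then h2 else h1) else (bif i then g2 else g1)
  let Cl : Bool → Set (Subgroup G) := fun a => bif a then Λ' else Λ
  have hCl : ∀ a, Cl a ∈ 𝓒 := by intro a; cases a <;> assumption
  have hmem : ∀ a i, L a i ∈ Cl a := by intro a i; cases a <;> cases i <;> assumption
  have hdiff : ∀ a i i', i ≠ i' → L a i ≠ L a i' := by
    intro a i i' hi
    cases a <;> cases i <;> cases i' <;> first | exact absurd rfl hi | exact hL21 | exact Ne.symm hL21 | exact hM21 | exact Ne.symm hM21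
  have hCne : ∀ a b, Cl a = Cl b → a = b := by
    intro a b hab
    cases a <;> cases b <;> first | rfl | exact absurd hab hne | exact absurd hab.symm hne
  have hwit : ∀ a i, Wit Q (L a i) (gg a i) := by intro a i; cases a <;> cases i <;> assumption
  have hQ : ∀ a, Q ≤ TwoCfg.Nm (Cl a) := by intro a; cases a <;> assumption
  have hgcomm : ∀ a i i', i ≠ i' → gg a i * gg a i' = gg a i' * gg a i := by
    intro a i i' hi
    exact F.comm (Cl a) (hCl a) (L a i) (hmem a i) (L a i') (hmem a i') (hdiff a i i' hi) _ (hwit a i).mem _ (hwit a i').mem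
  have hsw : ∀ a b, a ≠ b → cj (gg b false * gg b true) (L a false) = L a true := by
    intro a b hab
    cases a <;> cases b <;> first | exact absurd rfl hab | exact s1 | exact s2
  have B : BD L Q gg := by
    refine { comm := ?_, inj := ?_, fus := ?_, zst := ?_, two := C.pg, nrm := ?_, max := ?_, ne := ?_, gm := ?_, gT := ?_,
             gn := ?_, gs := ?_, sw := ?_ }
    · intro a i i' hi
      exact F.comm (Cl a) (hCl a) (L a i) (hmem a i) (L a i') (hmem a i') (hdiff a i i' hi)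
    · intro a i b k h0
      have hab : a = b := hCne a b (class_unique F.toFam (hCl a) (hCl b) (hmem a i) (by rw [h0]; exact hmem b k))
      subst hab
      refine ⟨rfl, ?_⟩
      by_contra hik
      exact hdiff a i k hik h0
    · intro a i b k x y hx hx2 hx1 hy
      have h0 := cj_of_fus F (hCl a) (hCl b) (hmem a i) (hmem b k) hx hx2 hx1 hy
      exact ⟨h0, fun i' k' hi hk => cj_other F (hCl a) (hCl b) (hmem a i) (hmem a i') (hdiff a i i' hi) (hmem b k)
        (hmem b k') (hdiff b k k' hk) h0⟩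
    · intro a i z hz hz2 hz1
      refine F.zst (Cl a) (hCl a) (L a i) (hmem a i) z hz2 (cj_eq_of_mem hz) ?_
      by_contra hcon
      push Not at hcon
      exact hz1 (F.cent (Cl a) (hCl a) (L a i) (hmem a i) z hz hz2 hcon)
    · intro t ht a i
      exact hQ a ht (L a i) (hmem a i)
    · intro R hR hQR hRn
      refine C.toCfg.le_of_two (hCl false) (hCl true) (fun h0 => absurd (hCne _ _ h0) (by decide)) (hQ false) (hQ true) hR hQR
        ?_ ?_
      · intro q hq
        exact mem_Nm_of_cj F (hCl false) (hmem false false) (hRn q hq false false)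
      · intro q hq
        exact mem_Nm_of_cj F (hCl true) (hmem true false) (hRn q hq true false)
    · obtain ⟨x, hx, hxQ, -, hx1⟩ := C.inv (Cl false) (hCl false) (hQ false) (L false false) (hmem false false)
      exact ⟨false, false, x, hxQ, hx, hx1⟩
    · exact fun a i => (hwit a i).mem
    · exact fun a i => (hwit a i).norm
    · exact fun a i => (hwit a i).not
    · exact fun a i => (hwit a i).sq
    · intro a b hab k k' hk i i' hi
      have e : gg b k * gg b k' = gg b false * gg b true := by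
        cases k <;> cases k'
        · exact absurd rfl hk
        · rfl
        · exact hgcomm b true false (by decide)
        · exact absurd rfl hk
      rw [e]
      cases i <;> cases i'
      · exact absurd rfl hi
      · exact hsw a b hab
      · exact cj_other F (hCl a) (hCl a) (hmem a false) (hmem a true) (hdiff a _ _ (by decide)) (hmem a true) (hmem a false)
          (hdiff a _ _ (by decide)) (hsw a b hab)
      · exact absurd rfl hi
  exact B.contra hgw (F.simple (Cl false) (hCl false) _ (hmem false false))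

end Cfsg.Agent.OddHalf.D3.BTwo
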