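import Cfsg.Agent.OddHalf.D3.BTwo.Key

/-!
# ODD D3 (b), `n = 2`, case (B2) (bb ODD 9609): (4a), uniqueness of the element of `N(A₀)` outside `P`
-/

set_option autoImplicit false

namespace Cfsg.Agent.OddHalf.D3.BTwo

open Cfsg.Agent.OddHalf.D3.ThreeDefs Cfsg.Agent.OddHalf.D3.ThreeFam Cfsg.Agent.OddHalf.D3.ThreeMain
  Cfsg.Agent.OddHalf.D3.ThreeEnd
open scoped commutatorElement

universe u

/-- two elements of square one: a nontrivial element commuting with both, or an element interchanging them -/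
theorem dich {H : Type*} [Group H] [Finite H] {a b : H} (ha : a * a = 1) (hb : b * b = 1) :
    (∃ f ∈ Subgroup.closure {a, b}, f ≠ 1 ∧ f * a = a * f ∧ f * b = b * f) ∨
      ∃ i ∈ Subgroup.closure {a, b}, i * a * i⁻¹ = b ∧ i * b * i⁻¹ = a := by
  have haC : a ∈ Subgroup.closure {a, b} := Subgroup.subset_closure (by simp)
  have hbC : b ∈ Subgroup.closure {a, b} := Subgroup.subset_closure (by simp)
  have hai : a⁻¹ = a := inv_of_sq ha
  have hbi : b⁻¹ = b := inv_of_sq hb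
  set c := a * b with hc
  have hcC : c ∈ Subgroup.closure {a, b} := mul_mem haC hbC
  have hac : ∀ m : ℕ, a * c ^ m * a⁻¹ = (c ^ m)⁻¹ := by
    intro m
    rw [← conj_pow, ← inv_pow]
    congr 1
    rw [hc, mul_inv_rev, hai, hbi]
    calc a * (a * b) * a = (a * a) * b * a := by group
      _ = b * a := by rw [ha, one_mul]
  have hbc : ∀ m : ℕ, b * c ^ m * b⁻¹ = (c ^ m)⁻¹ := by
    intro m
    rw [← conj_pow, ← inv_pow]
    congr 1
    rw [hc, mul_inv_rev, hai, hbi]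
    calc b * (a * b) * b = b * a * (b * b) := by group
      _ = b * a := by rw [hb, mul_one]
  have hn : 0 < orderOf c := orderOf_pos c
  rcases Nat.even_or_odd (orderOf c) with ⟨m, hm⟩ | ⟨m, hm⟩
  · left
    have hm0 : m ≠ 0 := by omega
    have h1 : c ^ m ≠ 1 := pow_ne_one_of_lt_orderOf hm0 (by omega)
    have h2 : c ^ m * c ^ m = 1 := by rw [← pow_add, ← hm, pow_orderOf_eq_one]
    have h3 : (c ^ m)⁻¹ = c ^ m := inv_of_sq h2
    refine ⟨c ^ m, pow_mem hcC m, h1, ?_, ?_⟩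
    · have := hac m
      rw [h3] at this
      exact (mul_inv_eq_iff_eq_mul.mp this).symm
    · have := hbc m
      rw [h3] at this
      exact (mul_inv_eq_iff_eq_mul.mp this).symm
  · right
    have h1 : (c ^ m * a) * (c ^ m * a) = 1 := by
      have h2 : a * c ^ m * a = (c ^ m)⁻¹ := by
        have := hac m
        rwa [hai] at this
      calc (c ^ m * a) * (c ^ m * a) = c ^ m * (a * c ^ m * a) := by group
        _ = 1 := by rw [h2]; group
    have h3 : (c ^ m * a)⁻¹ = c ^ m * a := inv_of_sq h1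
    have h4 : c ^ m * a * a * (c ^ m * a)⁻¹ = b := by
      have h5 : c ^ m * c ^ m = c⁻¹ := by
        have h6 : c ^ m * c ^ m * c = 1 := by
          rw [← pow_add, ← pow_succ, ← two_mul, ← hm, pow_orderOf_eq_one]
        exact eq_inv_of_mul_eq_one_left h6
      have h7 : a * (c ^ m)⁻¹ = c ^ m * a := by
        have := hac m
        have h8 := mul_inv_eq_iff_eq_mul.mp this
        calc a * (c ^ m)⁻¹ = (c ^ m * ((c ^ m)⁻¹ * a)) * (c ^ m)⁻¹ := by group
          _ = (c ^ m * (a * c ^ m)) * (c ^ m)⁻¹ := by rw [h8]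
          _ = _ := by group
      calc c ^ m * a * a * (c ^ m * a)⁻¹ = c ^ m * (a * (c ^ m)⁻¹) := by
            rw [mul_inv_rev, hai]
            calc c ^ m * a * a * (a * (c ^ m)⁻¹) = c ^ m * a * (a * a) * (c ^ m)⁻¹ := by group
              _ = _ := by rw [ha]; group
        _ = (c ^ m * c ^ m) * a := by rw [h7]; group
        _ = c⁻¹ * a := by rw [h5]
        _ = b := by
          rw [hc, mul_inv_rev, hai, hbi, mul_assoc, ha, mul_one]
    refine ⟨c ^ m * a, mul_mem (pow_mem hcC m) haC, h4, ?_⟩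
    rw [h3]
    rw [h3] at h4
    rw [← h4]
    calc c ^ m * a * (c ^ m * a * a * (c ^ m * a)) * (c ^ m * a)
        = ((c ^ m * a) * (c ^ m * a)) * a * ((c ^ m * a) * (c ^ m * a)) := by group
      _ = a := by rw [h1]; group

variable {G : Type u} [Group G]

variable {L : Bool → Bool → Subgroup G} {T : Subgroup G} {g : Bool → Bool → G}

/-- the involutions of `P a i`, `P a i'`, `P b k` -/
def Om (L : Bool → Bool → Subgroup G) (T : Subgroup G) (a i i' b k : Bool) : Set G :=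
  {x | x ∈ T ∧ x * x = 1 ∧ (x ∈ L a i ∨ x ∈ L a i' ∨ x ∈ L b k)}

/-- the group `W` -/
def WW (L : Bool → Bool → Subgroup G) (T : Subgroup G) (a i i' b k : Bool) : Subgroup G :=
  Subgroup.closure (Om L T a i i' b k)

theorem cj_closure_of [Finite G] {s : Set G} {y : G} (h : ∀ x ∈ s, y * x * y⁻¹ ∈ Subgroup.closure s) :
    cj y (Subgroup.closure s) = Subgroup.closure s := by
  refine Subgroup.eq_of_le_of_card_ge ?_ (card_cj y _).ge
  unfold cj
  rw [MonoidHom.map_closure, Subgroup.closure_le]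
  rintro _ ⟨x, hx, rfl⟩
  exact h x hx

namespace BD

variable [Finite G] {a b i i' k k' : Bool} {S : Subgroup G} {d : G}

theorem WW_le (T : Subgroup G) : WW L T a i i' b k ≤ T := by
  unfold WW
  rw [Subgroup.closure_le]
  exact fun x hx => hx.1

theorem W_of_Gd (h : BD L T g) (hab : a ≠ b) (hi : i ≠ i') (D : Gd L T a i b k S d) :
    cj d (WW L T a i i' b k) = WW L T a i i' b k := by
  apply cj_closure_of
  rintro x ⟨hxT, hx2, hx | hx | hx⟩
  · rw [D.inv h hab hxT hx, inv_of_sq hx2]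
    exact Subgroup.subset_closure ⟨hxT, hx2, Or.inl hx⟩
  · have : d * x * d⁻¹ = x := by rw [h.comm a i i' hi d D.dL x hx]; group
    rw [this]
    exact Subgroup.subset_closure ⟨hxT, hx2, Or.inr (Or.inl hx)⟩
  · rw [conj_eq_comm_mul]
    refine mul_mem (Subgroup.subset_closure ⟨D.rT h hxT hx, ?_, Or.inl (D.rL h hxT)⟩)
      (Subgroup.subset_closure ⟨hxT, hx2, Or.inr (Or.inr hx)⟩)
    exact (D.rsq h hab hxT hx).mpr hx2

theorem W_of_h (h : BD L T g) (hab : a ≠ b) : cj (g b k) (WW L T a i i' b k) = WW L T a i i' b k := by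
  apply cj_closure_of
  rintro x ⟨hxT, hx2, hx | hx | hx⟩
  · rw [conj_eq_comm_mul]
    refine mul_mem (Subgroup.subset_closure ⟨h.cm_T hxT b k, ?_, Or.inr (Or.inr (h.cm_L hxT b k))⟩)
      (Subgroup.subset_closure ⟨hxT, hx2, Or.inl hx⟩)
    exact (h.cm_sq (Ne.symm hab) hxT hx).mpr hx2
  · rw [conj_eq_comm_mul]
    refine mul_mem (Subgroup.subset_closure ⟨h.cm_T hxT b k, ?_, Or.inr (Or.inr (h.cm_L hxT b k))⟩)
      (Subgroup.subset_closure ⟨hxT, hx2, Or.inr (Or.inl hx)⟩)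
    exact (h.cm_sq (Ne.symm hab) hxT hx).mpr hx2
  · rw [h.g_inv b k hxT hx, inv_of_sq hx2]
    exact Subgroup.subset_closure ⟨hxT, hx2, Or.inr (Or.inr hx)⟩

/-- the group `Γ` -/
def GG (L : Bool → Bool → Subgroup G) (T : Subgroup G) (g : Bool → Bool → G) (a i i' b k k' : Bool) : Subgroup G where
  carrier := {y | cj y (WW L T a i i' b k) = WW L T a i i' b k ∧ ∀ u ∈ T, u ∈ L a i → u * u = 1 →
    y * (u * (g b k * g b k' * u * (g b k * g b k')⁻¹)) = (u * (g b k * g b k' * u * (g b k * g b k')⁻¹)) * y}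
  one_mem' := ⟨cj_one _, fun u _ _ _ => by simp⟩
  mul_mem' := by
    rintro x y ⟨hx, hx'⟩ ⟨hy, hy'⟩
    refine ⟨cj_mul_eq hx hy, fun u h1 h2 h3 => ?_⟩
    rw [mul_assoc, hy' u h1 h2 h3, ← mul_assoc, hx' u h1 h2 h3, mul_assoc]
  inv_mem' := by
    rintro x ⟨hx, hx'⟩
    refine ⟨cj_inv_eq hx, fun u h1 h2 h3 => ?_⟩
    have h4 : Commute x (u * (g b k * g b k' * u * (g b k * g b k')⁻¹)) := hx' u h1 h2 h3
    exact h4.inv_left.eq

theorem G_of_Gd (h : BD L T g) (hab : a ≠ b) (hk : k ≠ k') (hi : i ≠ i') (D : Gd L T a i b k S d) :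
    d ∈ GG L T g a i i' b k k' := by
  refine ⟨h.W_of_Gd hab hi D, fun u hu huL hu2 => ?_⟩
  have h1 : d * u = u * d := by
    have := D.inv h hab hu huL
    rw [inv_of_sq hu2] at this
    exact mul_inv_eq_iff_eq_mul.mp this
  have h2 := h.comm a i i' hi d D.dL _ (h.j_L (p := u) hab hk hi huL)
  rw [← mul_assoc, h1, mul_assoc, h2, ← mul_assoc]

theorem G_of_h (h : BD L T g) (hab : a ≠ b) (hk : k ≠ k') : g b k ∈ GG L T g a i i' b k k' := by
  refine ⟨h.W_of_h hab, fun u hu huL hu2 => ?_⟩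
  have h1 : u * (g b k * g b k' * u * (g b k * g b k')⁻¹) = ⁅g b k, u⁆ * ⁅g b k', u⁆ := by
    rw [h.j_conj hk hu]
    have c1 : u * ⁅g b k, u⁆ = ⁅g b k, u⁆ * u := h.cT hu huL (h.cm_T hu b k) (h.cm_L hu b k)
    have c2 : u * ⁅g b k', u⁆ = ⁅g b k', u⁆ * u := h.cT hu huL (h.cm_T hu b k') (h.cm_L hu b k')
    calc u * (⁅g b k, u⁆ * ⁅g b k', u⁆ * u) = (u * ⁅g b k, u⁆) * ⁅g b k', u⁆ * u := by group
      _ = ⁅g b k, u⁆ * (u * ⁅g b k', u⁆) * u := by rw [c1]; group
      _ = ⁅g b k, u⁆ * ⁅g b k', u⁆ * (u * u) := by rw [c2]; group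
      _ = _ := by rw [hu2, mul_one]
  rw [h1]
  have h2 : g b k * ⁅g b k, u⁆ = ⁅g b k, u⁆ * g b k := by
    have h3 := h.g_inv b k (h.cm_T hu b k) (h.cm_L hu b k)
    rw [inv_of_sq ((h.cm_sq (Ne.symm hab) hu huL).mpr hu2)] at h3
    exact mul_inv_eq_iff_eq_mul.mp h3
  have h4 : g b k * ⁅g b k', u⁆ = ⁅g b k', u⁆ * g b k := h.comm b k k' hk _ (h.gm b k) _ (h.cm_L hu b k')
  rw [← mul_assoc, h2, mul_assoc, h4, mul_assoc]

theorem GG_le : GG L T g a i i' b k k' ≤ Subgroup.normalizer (WW L T a i i' b k : Set G) :=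
  fun _ hy => mem_normalizer_of_cj hy.1

/-- the action on `W` -/
def phi (L : Bool → Bool → Subgroup G) (T : Subgroup G) (g : Bool → Bool → G) (a i i' b k k' : Bool) :
    GG L T g a i i' b k k' →* MulAut (WW L T a i i' b k) :=
  (WW L T a i i' b k).normalizerMonoidHom.comp (Subgroup.inclusion GG_le)

theorem phi_apply (y : GG L T g a i i' b k k') (w : WW L T a i i' b k) :
    ((phi L T g a i i' b k k' y w : WW L T a i i' b k) : G) = y * w * (y : G)⁻¹ := rfl

theorem phi_eq_iff {y y' : GG L T g a i i' b k k'} : phi L T g a i i' b k k' y = phi L T g a i i' b k k' y' ↔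
    ∀ w ∈ WW L T a i i' b k, (y : G) * w * (y : G)⁻¹ = y' * w * (y' : G)⁻¹ := by
  rw [MulEquiv.ext_iff]
  constructor
  · intro h w hw
    exact congrArg Subtype.val (h ⟨w, hw⟩)
  · intro h w
    exact Subtype.ext (h w w.2)

theorem phi_one_of {y : GG L T g a i i' b k k'} (h : ∀ w ∈ Om L T a i i' b k, (y : G) * w = w * y) :
    phi L T g a i i' b k k' y = 1 := by
  have h1 : WW L T a i i' b k ≤ Subgroup.centralizer {(y : G)} := by
    unfold WW
    rw [Subgroup.closure_le]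
    intro w hw
    rw [SetLike.mem_coe, Subgroup.mem_centralizer_singleton_iff]
    exact (h w hw).symm
  rw [← map_one (phi L T g a i i' b k k'), phi_eq_iff]
  intro w hw
  have h2 := Subgroup.mem_centralizer_singleton_iff.mp (h1 hw)
  rw [← h2]
  simp

/-- mapping members -/
theorem map_L (h : BD L T g) {x y x' : GG L T g a i i' b k k'} {w u : G} (hw : w ∈ WW L T a i i' b k)
    {c l c' l' : Bool}
    (hu : ⁅(x : G), w⁆ = u) (huL : u ∈ L c l) (hu2 : u * u = 1) (hu1 : u ≠ 1) (hx' : (x' : G) ∈ L c' l')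
    (e : phi L T g a i i' b k k' y * phi L T g a i i' b k k' x * (phi L T g a i i' b k k' y)⁻¹ =
      phi L T g a i i' b k k' x') :
    cj (y : G) (L c l) = L c' l' ∧ ∀ l1 l1', l ≠ l1 → l' ≠ l1' → cj (y : G) (L c l1) = L c' l1' := by
  refine h.fus c l c' l' u y huL hu2 hu1 ?_
  rw [← map_inv, ← map_mul, ← map_mul, phi_eq_iff] at e
  have hw' : (y : G) * w * (y : G)⁻¹ ∈ WW L T a i i' b k := conj_mem_of_cj y.2.1 hw
  have h1 := e _ hw'
  have h2 : (y : G) * u * (y : G)⁻¹ = ⁅(x' : G), (y : G) * w * (y : G)⁻¹⁆ := by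
    rw [commutatorElement_def, ← h1, ← hu, commutatorElement_def]
    push_cast
    group
  rw [h2]
  exact comm_mem hx' (h.nrm _ (WW_le T hw') c' l')

/-- an element of `Γ` normalising the members acts trivially on `W` -/
theorem phi_trivial (h : BD L T g) (hab : a ≠ b) (hk : k ≠ k') (hi : i ≠ i') {y : GG L T g a i i' b k k'}
    (h1 : ∀ l, cj (y : G) (L a l) = L a l) (h2 : ∀ l, cj (y : G) (L b l) = L b l) :
    phi L T g a i i' b k k' y = 1 := by
  have hW : ∀ w ∈ Om L T a i i' b k, (y : G) * w * (y : G)⁻¹ ∈ T := fun w hw =>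
    WW_le T (conj_mem_of_cj y.2.1 (Subgroup.subset_closure hw))
  -- elements of `P a i`
  have key : ∀ u ∈ T, u ∈ L a i → u * u = 1 → (y : G) * u * (y : G)⁻¹ = u ∧
      (y : G) * (g b k * g b k' * u * (g b k * g b k')⁻¹) * (y : G)⁻¹ = g b k * g b k' * u * (g b k * g b k')⁻¹ := by
    intro u hu huL hu2
    set v := g b k * g b k' * u * (g b k * g b k')⁻¹ with hv
    have hvT : v ∈ T := h.j_T hu
    have hvL : v ∈ L a i' := h.j_L hab hk hi huL
    have h3 : (y : G) * (u * v) = (u * v) * y := y.2.2 u hu huL hu2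
    have hu' := hW u ⟨hu, hu2, Or.inl huL⟩
    have h4 : u⁻¹ * ((y : G) * u * (y : G)⁻¹) = v * ((y : G) * v * (y : G)⁻¹)⁻¹ := by
      calc u⁻¹ * ((y : G) * u * (y : G)⁻¹) = u⁻¹ * ((y : G) * (u * v)) * v⁻¹ * (y : G)⁻¹ := by group
        _ = u⁻¹ * ((u * v) * y) * v⁻¹ * (y : G)⁻¹ := by rw [h3]
        _ = _ := by group
    have h5 : u⁻¹ * ((y : G) * u * (y : G)⁻¹) = 1 := by
      refine h.dis2 h.two (mul_mem (inv_mem hu) hu') (a := a) (i := i) (b := a) (k := i')
        (mul_mem (inv_mem huL) (conj_mem_of_cj (h1 i) huL)) ?_ (fun h0 => hi h0.2)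
      rw [h4]
      exact mul_mem hvL (inv_mem (conj_mem_of_cj (h1 i') hvL))
    have h6 : (y : G) * u * (y : G)⁻¹ = u := (inv_mul_eq_one.mp h5).symm
    rw [h5] at h4
    exact ⟨h6, (mul_inv_eq_one.mp h4.symm).symm⟩
  apply phi_one_of
  rintro x ⟨hxT, hx2, hx | hx | hx⟩
  · exact mul_inv_eq_iff_eq_mul.mp (key x hxT hx hx2).1
  · obtain ⟨p, hp, hpL, hpx⟩ := h.j_surj hab hk hi hxT hx
    have hp2 : p * p = 1 := by
      calc p * p = (g b k * g b k')⁻¹ * (x * x) * (g b k * g b k') := by rw [← hpx]; group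
        _ = 1 := by rw [hx2]; group
    have := (key p hp hpL hp2).2
    rw [hpx] at this
    exact mul_inv_eq_iff_eq_mul.mp this
  · -- `x = ⁅h, u⁆`
    obtain ⟨u, hu, huL, hux⟩ := h.cm_surj (Ne.symm hab) k i hxT hx
    have hu2 : u * u = 1 := by
      rw [← hux] at hx2
      exact (h.cm_sq (Ne.symm hab) hu huL).mp hx2
    obtain ⟨h3, h4⟩ := key u hu huL hu2
    have h5 := h.j_conj (b := b) hk hu
    rw [hux] at h5
    set v := g b k * g b k' * u * (g b k * g b k')⁻¹ with hv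
    set x' := ⁅g b k', u⁆ with hx'
    have hx'L : x' ∈ L b k' := h.cm_L hu b k'
    have h6 : v * u⁻¹ = x * x' := by rw [h5]; group
    have h7 : (y : G) * (x * x') * (y : G)⁻¹ = x * x' := by
      rw [← h6]
      calc (y : G) * (v * u⁻¹) * (y : G)⁻¹ = ((y : G) * v * (y : G)⁻¹) * ((y : G) * u * (y : G)⁻¹)⁻¹ := by group
        _ = _ := by rw [h3, h4]
    have h8 : x⁻¹ * ((y : G) * x * (y : G)⁻¹) = x' * ((y : G) * x' * (y : G)⁻¹)⁻¹ := by
      calc x⁻¹ * ((y : G) * x * (y : G)⁻¹) = x⁻¹ * ((y : G) * (x * x') * (y : G)⁻¹) * ((y : G) * x' * (y : G)⁻¹)⁻¹ := by group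
        _ = x⁻¹ * (x * x') * ((y : G) * x' * (y : G)⁻¹)⁻¹ := by rw [h7]
        _ = _ := by group
    have h9 : x⁻¹ * ((y : G) * x * (y : G)⁻¹) = 1 := by
      refine h.dis2 h.two (mul_mem (inv_mem hxT) (hW x ⟨hxT, hx2, Or.inr (Or.inr hx)⟩)) (a := b) (i := k) (b := b) (k := k')
        (mul_mem (inv_mem hx) (conj_mem_of_cj (h2 k) hx)) ?_ (fun h0 => hk h0.2)
      rw [h8]
      exact mul_mem hx'L (inv_mem (conj_mem_of_cj (h2 k') hx'L))
    exact mul_inv_eq_iff_eq_mul.mp (inv_mul_eq_one.mp h9).symm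

/-- an involution of `T ∩ L a i` -/
theorem exists_inv (h : BD L T g) (a i : Bool) : ∃ x ∈ T, x ∈ L a i ∧ x * x = 1 ∧ x ≠ 1 := by
  obtain ⟨x, hx, hx1⟩ := h.P_ne a i
  obtain ⟨n, hn2, hn1⟩ := exists_pow_inv h.two hx.1 hx1
  exact ⟨x ^ n, pow_mem hx.1 n, pow_mem hx.2 n, hn2, hn1⟩

/-- the element of `Γ` interchanging `L a i` and `L b k` -/
theorem exists_swap (h : BD L T g) (hab : a ≠ b) (hk : k ≠ k') (hi : i ≠ i') (D : Gd L T a i b k S d) :
    ∃ y : GG L T g a i i' b k k',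
      phi L T g a i i' b k k' y * phi L T g a i i' b k k' ⟨d, h.G_of_Gd hab hk hi D⟩ * (phi L T g a i i' b k k' y)⁻¹ =
        phi L T g a i i' b k k' ⟨g b k, h.G_of_h hab hk⟩ ∧
      (∀ i1 k1, (i = i1 ↔ k = k1) → cj (y : G) (L a i1) = L b k1 ∧ cj (y : G) (L b k1) = L a i1) := by
  set A := phi L T g a i i' b k k' ⟨d, h.G_of_Gd hab hk hi D⟩ with hA
  set B := phi L T g a i i' b k k' ⟨g b k, h.G_of_h hab hk⟩ with hB
  have hA2 : A * A = 1 := by
    rw [hA, ← map_mul]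
    apply phi_one_of
    rintro x ⟨hxT, hx2, hx⟩
    have : d * d ∈ L a i := mul_mem D.dL D.dL
    rcases hx with hx | hx | hx
    · exact h.cT (D.sq h hab) this hxT hx
    · exact h.cT (D.sq h hab) this hxT hx
    · exact h.cT (D.sq h hab) this hxT hx
  have hB2 : B * B = 1 := by
    rw [hB, ← map_mul]
    apply phi_one_of
    rintro x ⟨hxT, hx2, hx⟩
    have : g b k * g b k ∈ L b k := mul_mem (h.gm b k) (h.gm b k)
    rcases hx with hx | hx | hx
    · exact h.cT (h.gs b k) this hxT hx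
    · exact h.cT (h.gs b k) this hxT hx
    · exact h.cT (h.gs b k) this hxT hx
  have hcl : Subgroup.closure {A, B} ≤ (phi L T g a i i' b k k').range := by
    rw [Subgroup.closure_le]
    rintro x (rfl | rfl)
    · exact ⟨_, rfl⟩
    · exact ⟨_, rfl⟩
  -- an involution of `P a i`
  obtain ⟨u, hu, huL, hu2, hu1⟩ := h.exists_inv a i
  obtain ⟨w, hw, hwL, hwu⟩ := D.rsurj h hab hu huL
  have hw2 : w * w = 1 := by
    rw [← hwu] at hu2
    exact (D.rsq h hab hw hwL).mp hu2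
  have hwW : w ∈ WW L T a i i' b k := Subgroup.subset_closure ⟨hw, hw2, Or.inr (Or.inr hwL)⟩
  obtain ⟨t, ht, htL, ht2, ht1⟩ := h.exists_inv b k
  obtain ⟨v, hv, hvL, hvt⟩ := h.cm_surj (Ne.symm hab) k i ht htL
  have hv2 : v * v = 1 := by
    rw [← hvt] at ht2
    exact (h.cm_sq (Ne.symm hab) hv hvL).mp ht2
  have hvW : v ∈ WW L T a i i' b k := Subgroup.subset_closure ⟨hv, hv2, Or.inl hvL⟩
  rcases dich hA2 hB2 with ⟨f, hf, hf1, hfA, hfB⟩ | ⟨f, hf, hfA, hfB⟩
  · exfalso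
    obtain ⟨y, rfl⟩ := hcl hf
    apply hf1
    have e1 : phi L T g a i i' b k k' y * A * (phi L T g a i i' b k k' y)⁻¹ = A := by rw [hfA]; group
    have e2 : phi L T g a i i' b k k' y * B * (phi L T g a i i' b k k' y)⁻¹ = B := by rw [hfB]; group
    obtain ⟨m1, m2⟩ := h.map_L hwW hwu huL hu2 hu1 (c' := a) (l' := i) D.dL e1
    obtain ⟨n1, n2⟩ := h.map_L hvW hvt htL ht2 ht1 (c' := b) (l' := k) (h.gm b k) e2
    refine h.phi_trivial hab hk hi ?_ ?_
    · intro l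
      by_cases hl : i = l
      · subst hl; exact m1
      · exact m2 l l hl hl
    · intro l
      by_cases hl : k = l
      · subst hl; exact n1
      · exact n2 l l hl hl
  · obtain ⟨y, rfl⟩ := hcl hf
    refine ⟨y, hfA, ?_⟩
    obtain ⟨m1, m2⟩ := h.map_L hwW hwu huL hu2 hu1 (c' := b) (l' := k) (h.gm b k) hfA
    obtain ⟨n1, n2⟩ := h.map_L hvW hvt htL ht2 ht1 (c' := a) (l' := i) D.dL hfB
    intro i1 k1 hik
    by_cases hl : i = i1
    · have hl' := hik.mp hl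
      subst hl hl'
      exact ⟨m1, n1⟩
    · have hl' : ¬ k = k1 := fun h0 => hl (hik.mpr h0)
      exact ⟨m2 i1 k1 hl hl', n2 k1 i1 hl' hl⟩

/-- **(4a)** -/
theorem frob (h : BD L T g) (hab : a ≠ b) (D : Gd L T a i b k S d) (hgS : g a i ∈ S) : (g a i)⁻¹ * d ∈ T := by
  obtain ⟨k', hk⟩ := exists_ne k
  obtain ⟨i', hi⟩ := exists_ne i
  obtain ⟨S', D'⟩ := h.gd a i b k
  obtain ⟨y1, e1, m1⟩ := h.exists_swap hab hk hi D'
  obtain ⟨y2, e2, m2⟩ := h.exists_swap hab hk hi D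
  have h3 : phi L T g a i i' b k k' (y2⁻¹ * y1) = 1 := by
    refine h.phi_trivial hab hk hi ?_ ?_
    · intro l
      obtain ⟨l', hl'⟩ : ∃ l', i = l ↔ k = l' := by
        by_cases hl : i = l
        · exact ⟨k, by simp [hl]⟩
        · exact ⟨k', by simp [hl, hk]⟩
      push_cast
      rw [cj_mul, (m1 l l' hl').1]
      conv_lhs => rw [← (m2 l l' hl').1]
      rw [cj_inv_cj]
    · intro l
      obtain ⟨l', hl'⟩ : ∃ l', i = l' ↔ k = l := by
        by_cases hl : k = l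
        · exact ⟨i, by simp [hl]⟩
        · exact ⟨i', by simp [hl, hi]⟩
      push_cast
      rw [cj_mul, (m1 l' l hl').2]
      conv_lhs => rw [← (m2 l' l hl').2]
      rw [cj_inv_cj]
  have h4 : phi L T g a i i' b k k' y2 = phi L T g a i i' b k k' y1 := by
    rw [map_mul, map_inv] at h3
    exact inv_mul_eq_one.mp h3
  have h5 : phi L T g a i i' b k k' ⟨d, h.G_of_Gd hab hk hi D⟩ =
      phi L T g a i i' b k k' ⟨g a i, h.G_of_Gd hab hk hi D'⟩ := by
    rw [h4, ← e1] at e2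
    have := mul_right_cancel e2
    exact mul_left_cancel this
  rw [phi_eq_iff] at h5
  obtain ⟨t, ht, htL, ht2, ht1⟩ := h.exists_inv b k
  have h6 := h5 t (Subgroup.subset_closure ⟨ht, ht2, Or.inr (Or.inr htL)⟩)
  refine h.mem_T_of_comm D.hS D.TS hab (mul_mem (inv_mem hgS) D.dS) (mul_mem (inv_mem (h.gm a i)) D.dL) ht htL ht1 ?_
  change d * t * d⁻¹ = g a i * t * (g a i)⁻¹ at h6
  calc (g a i)⁻¹ * d * t = (g a i)⁻¹ * (d * t * d⁻¹) * d := by group
    _ = (g a i)⁻¹ * (g a i * t * (g a i)⁻¹) * d := by rw [h6]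
    _ = _ := by group

end BD

end Cfsg.Agent.OddHalf.D3.BTwo
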