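import Cfsg.Agent.OddHalf.D3.BTwo.Frob

/-!
# ODD D3 (b), `n = 2`, case (B2) (bb ODD 9609): (4b), `R = P ∪ g P` if `|P| > 2`
-/

set_option autoImplicit false

namespace Cfsg.Agent.OddHalf.D3.BTwo

open Cfsg.Agent.OddHalf.D3.ThreeDefs Cfsg.Agent.OddHalf.D3.ThreeFam Cfsg.Agent.OddHalf.D3.ThreeMain
  Cfsg.Agent.OddHalf.D3.ThreeEnd
open scoped commutatorElement

universe u

variable {G : Type u} [Group G]

/-- `T ∪ g T` -/
def dbl (T : Subgroup G) (g : G) (h : cj g T = T) (h2 : g * g ∈ T) : Subgroup G where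
  carrier := {x | x ∈ T ∨ g⁻¹ * x ∈ T}
  one_mem' := Or.inl (one_mem _)
  mul_mem' := by
    have hc : ∀ x ∈ T, g⁻¹ * x * g ∈ T := by
      intro x hx
      have := conj_mem_of_cj (cj_inv_eq h) hx
      rwa [inv_inv] at this
    rintro x y (hx | hx) (hy | hy)
    · exact Or.inl (mul_mem hx hy)
    · right
      have : g⁻¹ * (x * y) = (g⁻¹ * x * g) * (g⁻¹ * y) := by group
      rw [this]
      exact mul_mem (hc x hx) hy
    · right
      rw [← mul_assoc]
      exact mul_mem hx hy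
    · left
      have : x * y = (g * g) * (g⁻¹ * (g⁻¹ * x) * g) * (g⁻¹ * y) := by group
      rw [this]
      exact mul_mem (mul_mem h2 (hc _ hx)) hy
  inv_mem' := by
    have hc : ∀ x ∈ T, g⁻¹ * x * g ∈ T := by
      intro x hx
      have := conj_mem_of_cj (cj_inv_eq h) hx
      rwa [inv_inv] at this
    rintro x (hx | hx)
    · exact Or.inl (inv_mem hx)
    · right
      have : g⁻¹ * x⁻¹ = (g⁻¹ * (g⁻¹ * x)⁻¹ * g) * (g * g)⁻¹ := by group
      rw [this]
      exact mul_mem (hc _ (inv_mem hx)) (inv_mem h2)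

theorem mem_dbl {T : Subgroup G} {g : G} {h : cj g T = T} {h2 : g * g ∈ T} {x : G} :
    x ∈ dbl T g h h2 ↔ x ∈ T ∨ g⁻¹ * x ∈ T := Iff.rfl

variable {L : Bool → Bool → Subgroup G} {T : Subgroup G} {g : Bool → Bool → G}

namespace BD

variable [Finite G] {a b i i' k k' : Bool} {S : Subgroup G} {d : G}

/-- **(4b)** -/
theorem grow (h : BD L T g) (h3 : 2 < Nat.card ↥(T ⊓ L a i)) {R : Subgroup G} (hR : IsPGroup 2 R)
    (hRL : R ≤ L a i) (hRT : ∀ t ∈ T, cj t R = R) (hgR : g a i ∈ R) : ∀ x ∈ R, x ∈ T ∨ (g a i)⁻¹ * x ∈ T := by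
  obtain ⟨b, hab⟩ := exists_ne a
  by_contra hcon
  push Not at hcon
  obtain ⟨x0, hx0R, hx0T, hx0g⟩ := hcon
  set c := g a i with hc
  let S := mulSub R T hRT
  have hS : IsPGroup 2 S := isPGroup_mulSub hR h.two
  have hRS : R ≤ S := le_mulSub_left
  have hTS : T ≤ S := le_mulSub_right
  let T1 := dbl T c (h.gT a i) (h.gs a i)
  have hT1 : ∀ x, x ∈ T1 ↔ x ∈ T ∨ c⁻¹ * x ∈ T := fun x => Iff.rfl
  have hTT1 : T ≤ T1 := fun x hx => Or.inl hx
  have hT1S : T1 ≤ S := by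
    rintro x (hx | hx)
    · exact hTS hx
    · have : x = c * (c⁻¹ * x) := by group
      rw [this]
      exact mul_mem (hRS hgR) (hTS hx)
  obtain ⟨s, hsS, hsT1, hscj⟩ := exists_norm hS hT1S (fun h0 => by
    rcases h0 (hRS hx0R) with h1 | h1
    · exact hx0T h1
    · exact hx0g h1)
  obtain ⟨ρ, hρ, t0, ht0, rfl⟩ := hsS
  have hρT1 : ρ ∉ T1 := fun h0 => hsT1 (mul_mem h0 (hTT1 ht0))
  have hρcj : cj ρ T1 = T1 := by
    have h1 := cj_mul_eq hscj (cj_eq_of_mem (inv_mem (hTT1 ht0)))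
    have e : ρ * t0 * t0⁻¹ = ρ := by group
    rwa [e] at h1
  have hρL : ρ ∈ L a i := hRL hρ
  by_cases hA : (∀ x ∈ T, x ∈ L a i → ρ * x * ρ⁻¹ ∈ T) ∧ (∀ x ∈ T, x ∈ L b i → ρ * x * ρ⁻¹ ∈ T)
  · have D : Gd L T a i b i S ρ := ⟨hS, hTS, hRS hρ, hρL, fun h0 => hρT1 (hTT1 h0), hA.1, hA.2⟩
    exact hρT1 (Or.inr (h.frob hab D (hRS hgR)))
  · -- an element of `P a i ∪ P b i` which is moved out of `T`
    obtain ⟨t, ht, htc, htn⟩ : ∃ t ∈ T, (∀ b' k' x, x ∈ T → x ∈ L b' k' → t * x = x * t) ∧ ρ * t * ρ⁻¹ ∉ T := by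
      rw [not_and_or] at hA
      push Not at hA
      rcases hA with ⟨t, ht, htL, htn⟩ | ⟨t, ht, htL, htn⟩
      · exact ⟨t, ht, fun b' k' x hx hxL => h.cT ht htL hx hxL, htn⟩
      · exact ⟨t, ht, fun b' k' x hx hxL => h.cT ht htL hx hxL, htn⟩
    have ht1 : c⁻¹ * (ρ * t * ρ⁻¹) ∈ T := by
      have h1 : ρ * t * ρ⁻¹ ∈ T1 := conj_mem_of_cj hρcj (hTT1 ht)
      rcases h1 with h1 | h1
      · exact absurd h1 htn
      · exact h1
    set s := c⁻¹ * ⁅ρ, t⁆ with hs
    have hsT : s ∈ T := by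
      have : s = c⁻¹ * (ρ * t * ρ⁻¹) * t⁻¹ := by rw [hs, commutatorElement_def]; group
      rw [this]
      exact mul_mem ht1 (inv_mem ht)
    have hsL : s ∈ L a i := mul_mem (inv_mem (h.gm a i)) (comm_mem hρL (h.nrm t ht a i))
    -- the key claim
    have hcl : ∀ p ∈ T, p ∈ L b i → ρ * p * ρ⁻¹ ∈ T → p * p = 1 → p = 1 := by
      intro p hp hpL hρp hp2
      set r := ⁅ρ, p⁆ with hr
      have hrT : r ∈ T := by
        rw [hr, commutatorElement_def]
        exact mul_mem hρp (inv_mem hp)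
      have hrL : r ∈ L a i := comm_mem hρL (h.nrm p hp a i)
      have e1 : ρ * p * ρ⁻¹ = r * p := conj_eq_comm_mul ρ p
      have e2 : ρ * t * ρ⁻¹ = c * s * t := by rw [hs, conj_eq_comm_mul]; group
      have e3 : t * p = p * t := htc b i p hp hpL
      have e4 : t * r = r * t := htc a i r hrT hrL
      have e5 : s * p = p * s := h.cT hsT hsL hp hpL
      have e6 : s * r = r * s := h.cT hsT hsL hrT hrL
      have e7 : r * p = p * r := h.cT hrT hrL hp hpL
      have e8 : (c * s * t) * (r * p) = (r * p) * (c * s * t) := by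
        rw [← e1, ← e2]
        calc ρ * t * ρ⁻¹ * (ρ * p * ρ⁻¹) = ρ * (t * p) * ρ⁻¹ := by group
          _ = ρ * (p * t) * ρ⁻¹ := by rw [e3]
          _ = _ := by group
      have e9 : (s * t) * (r * p) = (r * p) * (s * t) := by
        calc (s * t) * (r * p) = s * (t * r) * p := by group
          _ = s * (r * t) * p := by rw [e4]
          _ = (s * r) * (t * p) := by group
          _ = (r * s) * (p * t) := by rw [e6, e3]
          _ = r * (s * p) * t := by group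
          _ = r * (p * s) * t := by rw [e5]
          _ = _ := by group
      have e10 : c * (r * p) = (r * p) * c := by
        have : c * ((s * t) * (r * p)) = (r * p) * c * (s * t) := by
          calc c * ((s * t) * (r * p)) = (c * s * t) * (r * p) := by group
            _ = (r * p) * (c * s * t) := e8
            _ = _ := by group
        rw [e9] at this
        have h1 : c * (r * p) * (s * t) = (r * p) * c * (s * t) := by rw [← this]; group
        exact mul_right_cancel h1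
      have e11 : c * r * c⁻¹ = r⁻¹ := h.g_inv a i hrT hrL
      have e12 : c * p * c⁻¹ = ⁅c, p⁆ * p := conj_eq_comm_mul c p
      have e13 : r⁻¹ * (⁅c, p⁆ * p) = r * p := by
        rw [← e11, ← e12]
        calc c * r * c⁻¹ * (c * p * c⁻¹) = (c * (r * p)) * c⁻¹ := by group
          _ = ((r * p) * c) * c⁻¹ := by rw [e10]
          _ = _ := by group
      have e14 : ⁅c, p⁆ = r * r := by
        calc ⁅c, p⁆ = r * (r⁻¹ * (⁅c, p⁆ * p)) * p⁻¹ := by group
          _ = _ := by rw [e13]; group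
      have e15 : r * r = 1 := by
        have : ⁅ρ, p * p⁆ = r * r := comm_mul_of e7.symm
        rw [← this, hp2]; simp
      rw [e15] at e14
      exact (h.cm_one hab hp hpL).mp e14
    have hcl2 : ∀ p ∈ T, p ∈ L b i → ρ * p * ρ⁻¹ ∈ T → p = 1 := by
      intro p hp hpL hρp
      by_contra hp1
      obtain ⟨n, hn2, hn1⟩ := exists_pow_inv h.two hp hp1
      refine hn1 (hcl (p ^ n) (pow_mem hp n) (pow_mem hpL n) ?_ hn2)
      rw [← conj_pow]
      exact pow_mem hρp n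
    have hcl3 : ∀ p ∈ T, p ∈ L b i → p ≠ 1 → ∀ q ∈ T, q ∈ L b i → q ≠ 1 → p = q := by
      intro p hp hpL hp1 q hq hqL hq1
      have hpT1 : ρ * p * ρ⁻¹ ∈ T1 := conj_mem_of_cj hρcj (hTT1 hp)
      have hqT1 : ρ * q * ρ⁻¹ ∈ T1 := conj_mem_of_cj hρcj (hTT1 hq)
      have hp2 : c⁻¹ * (ρ * p * ρ⁻¹) ∈ T := by
        rcases hpT1 with h1 | h1
        · exact absurd (hcl2 p hp hpL h1) hp1
        · exact h1
      have hq2 : c⁻¹ * (ρ * q * ρ⁻¹) ∈ T := by
        rcases hqT1 with h1 | h1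
        · exact absurd (hcl2 q hq hqL h1) hq1
        · exact h1
      have h5 : ρ * (p * q⁻¹) * ρ⁻¹ ∈ T := by
        have : ρ * (p * q⁻¹) * ρ⁻¹ = c * ((c⁻¹ * (ρ * p * ρ⁻¹)) * (c⁻¹ * (ρ * q * ρ⁻¹))⁻¹) * c⁻¹ := by group
        rw [this]
        exact h.g_conj a i (mul_mem hp2 (inv_mem hq2))
      have h6 := hcl2 (p * q⁻¹) (mul_mem hp (inv_mem hq)) (mul_mem hpL (inv_mem hqL)) h5
      exact mul_inv_eq_one.mp h6
    obtain ⟨p0, hp0, hp01⟩ := h.P_ne b i
    have h7 : ((T ⊓ L b i : Subgroup G) : Set G) ⊆ {1, p0} := by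
      intro x hx
      by_cases hx1 : x = 1
      · left; exact hx1
      · right; exact hcl3 x hx.1 hx.2 hx1 p0 hp0.1 hp0.2 hp01
    have h8 : Nat.card ↥(T ⊓ L b i) ≤ 2 := by
      calc Nat.card ↥(T ⊓ L b i) = ((T ⊓ L b i : Subgroup G) : Set G).ncard := rfl
        _ ≤ ({1, p0} : Set G).ncard := Set.ncard_le_ncard h7 (Set.toFinite _)
        _ ≤ 2 := by
          refine (Set.ncard_insert_le _ _).trans ?_
          rw [Set.ncard_singleton]
    rw [h.card_eq b i a i] at h8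
    omega

end BD

end Cfsg.Agent.OddHalf.D3.BTwo
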