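import Cfsg.Agent.OddHalf.D3.BTwo.Coord

/-!
# ODD D3 (b), `n = 2`, case (B2) (bb ODD 9609): coordinates (2) and the key relation (3)
-/

set_option autoImplicit false

namespace Cfsg.Agent.OddHalf.D3.BTwo

open Cfsg.Agent.OddHalf.D3.ThreeDefs Cfsg.Agent.OddHalf.D3.ThreeFam Cfsg.Agent.OddHalf.D3.ThreeMain
  Cfsg.Agent.OddHalf.D3.ThreeEnd
open scoped commutatorElement

universe u

variable {G : Type u} [Group G]

variable {L : Bool → Bool → Subgroup G} {T : Subgroup G} {g : Bool → Bool → G}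

theorem comm_mul_of {d x y : G} (h : x * ⁅d, y⁆ = ⁅d, y⁆ * x) : ⁅d, x * y⁆ = ⁅d, x⁆ * ⁅d, y⁆ := by
  have h2 : ⁅d, x * y⁆ = ⁅d, x⁆ * (x * ⁅d, y⁆) * x⁻¹ := by
    simp only [commutatorElement_def]; group
  rw [h2, h]; group

namespace BD

variable [Finite G] {a b i i' k k' : Bool}

theorem cm_inj (h : BD L T g) (hab : a ≠ b) {x y : G} (hx : x ∈ T) (hxL : x ∈ L b k) (hy : y ∈ T) (hyL : y ∈ L b k)
    (e : ⁅g a i, x⁆ = ⁅g a i, y⁆) : x = y := by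
  obtain ⟨S, D⟩ := h.gd a i b k
  have h1 := D.hom_injective h hab (a₁ := ⟨x, hx, hxL⟩) (a₂ := ⟨y, hy, hyL⟩) (Subtype.ext e)
  exact congrArg Subtype.val h1

/-- `j² ` centralises the groups `P a i` -/
theorem j_sq (h : BD L T g) (hk : k ≠ k') {p : G} (hp : p ∈ T) (hpL : p ∈ L a i) :
    g b k * g b k' * (g b k * g b k' * p * (g b k * g b k')⁻¹) * (g b k * g b k')⁻¹ = p := by
  have h1 := h.g_comm hk b
  have h2 : (g b k * g b k) * p = p * (g b k * g b k) := h.cT (h.gs b k) (mul_mem (h.gm b k) (h.gm b k)) hp hpL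
  have h3 : (g b k' * g b k') * p = p * (g b k' * g b k') := h.cT (h.gs b k') (mul_mem (h.gm b k') (h.gm b k')) hp hpL
  have h4 : (g b k * g b k') * (g b k * g b k') = (g b k * g b k) * (g b k' * g b k') := by
    calc (g b k * g b k') * (g b k * g b k') = (g b k * g b k') * (g b k' * g b k) := by rw [h1]
      _ = g b k * ((g b k' * g b k') * g b k) := by group
      _ = g b k * (g b k' * (g b k * g b k')) := by rw [h1]; group
      _ = g b k * ((g b k' * g b k) * g b k') := by group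
      _ = g b k * ((g b k * g b k') * g b k') := by rw [← h1]
      _ = _ := by group
  calc g b k * g b k' * (g b k * g b k' * p * (g b k * g b k')⁻¹) * (g b k * g b k')⁻¹
      = ((g b k * g b k') * (g b k * g b k')) * p * ((g b k * g b k') * (g b k * g b k'))⁻¹ := by group
    _ = (g b k * g b k) * ((g b k' * g b k') * p) * ((g b k * g b k) * (g b k' * g b k'))⁻¹ := by rw [h4]; group
    _ = ((g b k * g b k) * p) * (g b k' * g b k') * ((g b k * g b k) * (g b k' * g b k'))⁻¹ := by rw [h3]; group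
    _ = p := by rw [h2]; group

/-- every element of `P a i'` is `j p j⁻¹` with `p ∈ P a i` -/
theorem j_surj (h : BD L T g) (hab : a ≠ b) (hk : k ≠ k') (hi : i ≠ i') {v : G} (hv : v ∈ T) (hvL : v ∈ L a i') :
    ∃ p ∈ T, p ∈ L a i ∧ g b k * g b k' * p * (g b k * g b k')⁻¹ = v :=
  ⟨_, h.j_T hv, h.j_L hab hk (Ne.symm hi) hvL, h.j_sq hk hv hvL⟩

/-- `P a i P a i' ∩ P b k = 1` -/
theorem disj (h : BD L T g) (hab : a ≠ b) (hk : k ≠ k') (hi : i ≠ i') {p1 p2 q : G} (hp1 : p1 ∈ T)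
    (hp1L : p1 ∈ L a i) (hp2 : p2 ∈ T) (hp2L : p2 ∈ L a i') (hq : q ∈ T) (hqL : q ∈ L b k) (e : p1 * p2 = q) :
    q = 1 ∧ p1 = 1 ∧ p2 = 1 := by
  obtain ⟨p, hp, hpL, hpj⟩ := h.j_surj hab hk hi hp2 hp2L
  -- `⁅h', p1 p2⁆ = 1`
  have hmul : ∀ l, ⁅g b l, p1 * p2⁆ = ⁅g b l, p1⁆ * ⁅g b l, p2⁆ := fun l =>
    comm_mul_of (h.cT hp1 hp1L (h.cm_T hp2 b l) (h.cm_L hp2 b l))
  have h1 : ⁅g b k', p1 * p2⁆ = 1 := by
    rw [e]
    exact comm_one_of (h.comm b k' k (Ne.symm hk) _ (h.gm b k') _ hqL)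
  have hpj' : g b k' * g b k * p * (g b k' * g b k)⁻¹ = p2 := by rw [← h.g_comm hk b]; exact hpj
  have h2 : ⁅g b k', p2⁆ = ⁅g b k', p⁆⁻¹ := by rw [← hpj']; exact h.cm_j (Ne.symm hk) hp
  have h3 : ⁅g b k, p2⁆ = ⁅g b k, p⁆⁻¹ := by rw [← hpj]; exact h.cm_j hk hp
  have h4 : p1 = p := by
    refine h.cm_inj (Ne.symm hab) hp1 hp1L hp hpL (i := k') ?_
    rw [hmul, h2] at h1
    exact mul_inv_eq_one.mp h1
  subst h4
  have h5 : ⁅g b k, q⁆ = 1 := by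
    rw [← e, hmul, h3, mul_inv_cancel]
  have h6 : q = q⁻¹ := by
    rw [← h.g_inv b k hq hqL, comm_eq_one h5]; group
  have h7 : q * q = 1 := by
    nth_rw 1 [h6]
    exact inv_mul_cancel q
  have h8 : p1 * p2 = p2 * p1 := h.comm a i i' hi _ hp1L _ hp2L
  have h9 : (p1 * p1) * (p2 * p2) = 1 := by
    rw [← h7, ← e]
    calc (p1 * p1) * (p2 * p2) = p1 * (p1 * p2) * p2 := by group
      _ = p1 * (p2 * p1) * p2 := by rw [h8]
      _ = _ := by group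
  have h10 : p1 * p1 = 1 := by
    refine h.dis2 h.two (mul_mem hp1 hp1) (mul_mem hp1L hp1L) (b := a) (k := i') ?_ (fun h0 => hi h0.2)
    rw [eq_inv_of_mul_eq_one_left h9]
    exact inv_mem (mul_mem hp2L hp2L)
  have h11 : ⁅g b k, p1⁆ * ⁅g b k', p1⁆ * p1 = p2 := by rw [← hpj, h.j_conj hk hp]
  have h12 : ⁅g b k, p1⁆ * ⁅g b k', p1⁆ = q := by
    rw [← e, h8, ← h11]
    calc ⁅g b k, p1⁆ * ⁅g b k', p1⁆ = ⁅g b k, p1⁆ * ⁅g b k', p1⁆ * (p1 * p1) := by rw [h10, mul_one]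
      _ = _ := by group
  have h13 : ⁅g b k', p1⁆ = 1 := by
    refine h.dis2 h.two (h.cm_T hp1 b k') (h.cm_L hp1 b k') (b := b) (k := k) ?_ (fun h0 => hk h0.2.symm)
    have : ⁅g b k', p1⁆ = ⁅g b k, p1⁆⁻¹ * q := by rw [← h12]; group
    rw [this]
    exact mul_mem (inv_mem (h.cm_L hp1 b k)) hqL
  have h14 : p1 = 1 := (h.cm_one (Ne.symm hab) hp1 hp1L).mp h13
  have h15 : p2 = 1 := by rw [← h11, h14]; simp
  exact ⟨by rw [← e, h14, h15, one_mul], h14, h15⟩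

/-- (2): `⁅g a i, ⁅g b k, p⁆⁆ = p` and `⁅g a i', ⁅g b k, p⁆⁆ = (j p j⁻¹)⁻¹` -/
theorem coord (h : BD L T g) (hab : a ≠ b) (hk : k ≠ k') (hi : i ≠ i') {p : G} (hp : p ∈ T) (hpL : p ∈ L a i) :
    ⁅g a i, ⁅g b k, p⁆⁆ = p ∧
      ⁅g a i', ⁅g b k, p⁆⁆ = (g b k * g b k' * p * (g b k * g b k')⁻¹)⁻¹ := by
  set q := ⁅g b k, p⁆ with hq
  set q' := ⁅g b k', p⁆ with hq'
  have hqT : q ∈ T := h.cm_T hp b k
  have hqL : q ∈ L b k := h.cm_L hp b k
  have hq'T : q' ∈ T := h.cm_T hp b k'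
  have hq'L : q' ∈ L b k' := h.cm_L hp b k'
  set p2 := g b k * g b k' * p * (g b k * g b k')⁻¹ with hp2
  have hp2T : p2 ∈ T := h.j_T hp
  have hp2L : p2 ∈ L a i' := h.j_L hab hk hi hpL
  have e1 : q * q' * p = p2 := (h.j_conj hk hp).symm
  set x := ⁅g a i, q⁆ with hx
  set y := ⁅g a i', q⁆ with hy
  have hxT : x ∈ T := h.cm_T hqT a i
  have hxL : x ∈ L a i := h.cm_L hqT a i
  have hyT : y ∈ T := h.cm_T hqT a i'
  have hyL : y ∈ L a i' := h.cm_L hqT a i'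
  have e2 : g a i * g a i' * q * (g a i * g a i')⁻¹ = x * y * q := h.j_conj hi hqT
  have hq2T : x * y * q ∈ T := mul_mem (mul_mem hxT hyT) hqT
  have hq2L : x * y * q ∈ L b k' := by rw [← e2]; exact h.j_L (Ne.symm hab) hi hk hqL
  have c1 : q' * x = x * q' := h.cT hq'T hq'L hxT hxL
  have c2 : q' * y = y * q' := h.cT hq'T hq'L hyT hyL
  have c3 : q * q' = p2 * p⁻¹ := by rw [← e1]; group
  have c4 : q' * q = q * q' := h.comm b k' k (Ne.symm hk) _ hq'L _ hqL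
  have c5 : p2 * (p⁻¹ * x) = (p⁻¹ * x) * p2 := h.comm a i' i (Ne.symm hi) _ hp2L _ (mul_mem (inv_mem hpL) hxL)
  have c6 : x * y * p2 = p2 * (x * y) := by
    have c7 : x * p2 = p2 * x := h.cT hxT hxL hp2T hp2L
    have c8 : y * p2 = p2 * y := h.cT hyT hyL hp2T hp2L
    rw [mul_assoc, c8, ← mul_assoc, c7, mul_assoc]
  have c9 : x * y * p⁻¹ = p⁻¹ * (x * y) := by
    have c7 : x * p⁻¹ = p⁻¹ * x := h.cT hxT hxL (inv_mem hp) (inv_mem hpL)
    have c8 : y * p⁻¹ = p⁻¹ * y := h.cT hyT hyL (inv_mem hp) (inv_mem hpL)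
    rw [mul_assoc, c8, ← mul_assoc, c7, mul_assoc]
  have e3 : (p⁻¹ * x) * (p2 * y) = q' * (x * y * q) := by
    calc (p⁻¹ * x) * (p2 * y) = ((p⁻¹ * x) * p2) * y := by group
      _ = (p2 * (p⁻¹ * x)) * y := by rw [c5]
      _ = p2 * (p⁻¹ * (x * y)) := by group
      _ = p2 * (x * y * p⁻¹) := by rw [c9]
      _ = (p2 * (x * y)) * p⁻¹ := by group
      _ = (x * y * p2) * p⁻¹ := by rw [c6]
      _ = x * y * (p2 * p⁻¹) := by group
      _ = x * y * (q * q') := by rw [c3]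
      _ = x * y * (q' * q) := by rw [c4]
      _ = x * (y * q') * q := by group
      _ = x * (q' * y) * q := by rw [c2]
      _ = (x * q') * y * q := by group
      _ = (q' * x) * y * q := by rw [c1]
      _ = _ := by group
  obtain ⟨-, e4, e5⟩ := h.disj (k := k') (k' := k) hab (Ne.symm hk) hi (mul_mem (inv_mem hp) hxT) (mul_mem (inv_mem hpL) hxL)
    (mul_mem hp2T hyT) (mul_mem hp2L hyL) (mul_mem hq'T hq2T) (mul_mem hq'L hq2L) e3
  refine ⟨?_, ?_⟩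
  · have : x = p * (p⁻¹ * x) := by group
    rw [this, e4, mul_one]
  · exact eq_inv_of_mul_eq_one_right e5

/-- (3), THE KEY RELATION: `1 ≠ p ∈ P a i`, `ρ ∈ L b k` commuting with `p` ⇒ `⁅ρ, ⁅g b k, p⁆⁆ ∈ L b k ∩ L a i'` -/
theorem key (h : BD L T g) (hab : a ≠ b) (hk : k ≠ k') (hi : i ≠ i') {p ρ : G} (hp : p ∈ T) (hpL : p ∈ L a i)
    (hp1 : p ≠ 1) (hρ : ρ ∈ L b k) (hρp : ρ * p = p * ρ) :
    ⁅ρ, ⁅g b k, p⁆⁆ ∈ L b k ∧ ⁅ρ, ⁅g b k, p⁆⁆ ∈ L a i' := by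
  set q := ⁅g b k, p⁆ with hq
  set q' := ⁅g b k', p⁆ with hq'
  have hqL : q ∈ L b k := h.cm_L hp b k
  have hq'L : q' ∈ L b k' := h.cm_L hp b k'
  set p2 := g b k * g b k' * p * (g b k * g b k')⁻¹ with hp2
  have hp2L : p2 ∈ L a i' := h.j_L hab hk hi hpL
  have e1 : q * q' * p = p2 := (h.j_conj hk hp).symm
  constructor
  · rw [commutatorElement_def]
    exact mul_mem (mul_mem (mul_mem hρ hqL) (inv_mem hρ)) (inv_mem hqL)
  · have h1 : ⁅ρ, p2⁆ ∈ L a i' := comm_mem' hp2L (h.cen2 h.two hp hpL hp1 hρp i')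
    have h2 : ⁅ρ, p2⁆ = ⁅ρ, q⁆ := by
      have c1 : ρ * q' = q' * ρ := h.comm b k k' hk _ hρ _ hq'L
      have c2 : ρ * (q' * p) = (q' * p) * ρ := by
        rw [← mul_assoc, c1, mul_assoc, hρp, mul_assoc]
      have e2 : p2 = q * (q' * p) := by rw [← e1]; group
      rw [e2, commutatorElement_def, commutatorElement_def]
      have c3 : (q' * p) * ρ⁻¹ = ρ⁻¹ * (q' * p) := by
        calc (q' * p) * ρ⁻¹ = ρ⁻¹ * (ρ * (q' * p)) * ρ⁻¹ := by group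
          _ = ρ⁻¹ * ((q' * p) * ρ) * ρ⁻¹ := by rw [c2]
          _ = _ := by group
      calc ρ * (q * (q' * p)) * ρ⁻¹ * (q * (q' * p))⁻¹ = ρ * q * ((q' * p) * ρ⁻¹) * (q * (q' * p))⁻¹ := by group
        _ = ρ * q * (ρ⁻¹ * (q' * p)) * (q * (q' * p))⁻¹ := by rw [c3]
        _ = _ := by group
    rwa [h2] at h1

end BD

end Cfsg.Agent.OddHalf.D3.BTwo
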