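import Cfsg.Agent.OddHalf.D3.BTwo.Grow

/-!
# ODD D3 (b), `n = 2`, case (B2) (bb ODD 9609): (5), `P` is elementary if `|P| > 2`
-/

set_option autoImplicit false

namespace Cfsg.Agent.OddHalf.D3.BTwo

open Cfsg.Agent.OddHalf.D3.ThreeDefs Cfsg.Agent.OddHalf.D3.ThreeFam Cfsg.Agent.OddHalf.D3.ThreeMain
  Cfsg.Agent.OddHalf.D3.ThreeEnd
open scoped commutatorElement

universe u

variable {G : Type u} [Group G]

/-- `R` is a Sylow 2-subgroup of `K` -/
structure SylIn (K R : Subgroup G) : Prop where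
  le : R ≤ K
  two : IsPGroup 2 R
  max : ∀ Q : Subgroup G, Q ≤ K → IsPGroup 2 Q → Nat.card Q ≤ Nat.card R

theorem isPGroup_zpowers {y : G} {T : Subgroup G} (hT : IsPGroup 2 T) (hy : y ∈ T) : IsPGroup 2 (Subgroup.zpowers y) :=
  hT.to_le (by rw [Subgroup.zpowers_le]; exact hy)

theorem cj_zpowers {y : G} {K : Subgroup G} (h : cj y K = K) : ∀ w ∈ Subgroup.zpowers y, cj w K = K := by
  intro w hw
  have : Subgroup.zpowers y ≤ Subgroup.normalizer (K : Set G) := by
    rw [Subgroup.zpowers_le]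
    exact mem_normalizer_of_cj h
  exact cj_of_mem_normalizer (this hw)

theorem isPGroup_cj {T : Subgroup G} (hT : IsPGroup 2 T) (c : G) : IsPGroup 2 (cj c T) := hT.map _

namespace SylIn

variable [Finite G] {K R : Subgroup G}

theorem eq_of_le (h : SylIn K R) {Q : Subgroup G} (hRQ : R ≤ Q) (hQK : Q ≤ K) (hQ : IsPGroup 2 Q) : Q = R :=
  (Subgroup.eq_of_le_of_card_ge hRQ (h.max Q hQK hQ)).symm

theorem conj (h : SylIn K R) {Q : Subgroup G} (hQK : Q ≤ K) (hQ : IsPGroup 2 Q) : ∃ c ∈ K, ∀ q ∈ Q, c * q * c⁻¹ ∈ R := by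
  obtain ⟨T, hTK, hT, hRT, hc⟩ := exists_syl h.two h.le
  have h1 := h.eq_of_le hRT hTK hT
  obtain ⟨c, hcK, hcQ⟩ := hc Q hQK hQ
  refine ⟨c, hcK, fun q hq => ?_⟩
  rw [← h1]
  exact hcQ (conj_mem_cj hq)

theorem mono (h : SylIn K R) {K' : Subgroup G} (hK : K' ≤ K) (hR : R ≤ K') : SylIn K' R :=
  ⟨hR, h.two, fun Q hQ hQ2 => h.max Q (hQ.trans hK) hQ2⟩

theorem cj (h : SylIn K R) {c : G} (hc : c ∈ K) : SylIn K (ThreeDefs.cj c R) := by
  refine ⟨?_, isPGroup_cj h.two c, fun Q hQ hQ2 => ?_⟩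
  · have := cj_mono (g := c) h.le
    rwa [cj_eq_of_mem hc] at this
  · rw [card_cj]; exact h.max Q hQ hQ2

theorem exists_le {W : Subgroup G} (hW : IsPGroup 2 W) (hWK : W ≤ K) : ∃ R, SylIn K R ∧ W ≤ R := by
  obtain ⟨T, hTK, hT, hWT, hc⟩ := exists_syl hW hWK
  refine ⟨T, ⟨hTK, hT, fun Q hQ hQ2 => ?_⟩, hWT⟩
  obtain ⟨c, -, hcQ⟩ := hc Q hQ hQ2
  rw [← card_cj c Q]
  exact Nat.card_le_card_of_injective _ (Subgroup.inclusion_injective hcQ)

/-- **Burnside fusion** for central elements -/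
theorem burnside (h : SylIn K R) {z w m : G} (hz : ∀ s ∈ R, z * s = s * z) (hw : ∀ s ∈ R, w * s = s * w)
    (hm : m ∈ K) (e : m * z * m⁻¹ = w) : ∃ n ∈ K, ThreeDefs.cj n R = R ∧ n * z * n⁻¹ = w := by
  set C := K ⊓ Subgroup.centralizer {w} with hC
  have hRC : R ≤ C := by
    refine le_inf h.le ?_
    intro s hs
    rw [Subgroup.mem_centralizer_singleton_iff]
    exact (hw s hs).symm
  have h1 : SylIn C R := h.mono inf_le_left hRC
  have h2 : ThreeDefs.cj m R ≤ C := by
    refine le_inf (h.cj hm).le ?_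
    intro s hs
    rw [mem_cj] at hs
    rw [Subgroup.mem_centralizer_singleton_iff, ← e]
    have h3 := hz _ hs
    calc s * (m * z * m⁻¹) = m * ((m⁻¹ * s * m) * z) * m⁻¹ := by group
      _ = m * (z * (m⁻¹ * s * m)) * m⁻¹ := by rw [h3]
      _ = _ := by group
  obtain ⟨c, hc, hcR⟩ := h1.conj h2 (isPGroup_cj h.two m)
  refine ⟨c * m, mul_mem hc.1 hm, ?_, ?_⟩
  · refine Subgroup.eq_of_le_of_card_ge ?_ (card_cj _ _).ge
    intro x hx
    rw [cj_mul, mem_cj] at hx
    have := hcR _ hx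
    have e1 : c * (c⁻¹ * x * c) * c⁻¹ = x := by group
    rwa [e1] at this
  · have h3 := Subgroup.mem_centralizer_singleton_iff.mp hc.2
    calc c * m * z * (c * m)⁻¹ = c * (m * z * m⁻¹) * c⁻¹ := by group
      _ = w := by rw [e, h3]; group

end SylIn

variable {L : Bool → Bool → Subgroup G} {T : Subgroup G} {g : Bool → Bool → G}

namespace BD

variable [Finite G] {a b i i' k k' : Bool}

/-- the `T`-invariant Sylow 2-subgroup of `L a i` containing `g a i` -/
theorem exists_R (h : BD L T g) (a i : Bool) : ∃ R, SylIn (L a i) R ∧ (∀ t ∈ T, cj t R = R) ∧ g a i ∈ R ∧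
    T ⊓ L a i ≤ R := by
  obtain ⟨S0, hS0, hTS0, hgS0⟩ := h.exS a i
  let W := dbl T (g a i) (h.gT a i) (h.gs a i)
  have hTW : T ≤ W := fun x hx => Or.inl hx
  have hgW : g a i ∈ W := Or.inr (by rw [inv_mul_cancel]; exact one_mem _)
  have hW : IsPGroup 2 W := by
    refine hS0.to_le ?_
    rintro x (hx | hx)
    · exact hTS0 hx
    · have : x = g a i * ((g a i)⁻¹ * x) := by group
      rw [this]
      exact mul_mem hgS0 (hTS0 hx)
  have hWL : ∀ w ∈ W, cj w (L a i) = L a i := by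
    rintro x (hx | hx)
    · exact h.nrm x hx a i
    · have : x = g a i * ((g a i)⁻¹ * x) := by group
      rw [this]
      exact cj_mul_eq (cj_eq_of_mem (h.gm a i)) (h.nrm _ hx a i)
  let X := mulSub (L a i) W hWL
  have hLX : L a i ≤ X := le_mulSub_left
  have hWX : W ≤ X := le_mulSub_right
  have hXn : ∀ x ∈ X, cj x (L a i) = L a i := by
    rintro _ ⟨l, hl, w, hw, rfl⟩
    exact cj_mul_eq (cj_eq_of_mem hl) (hWL w hw)
  obtain ⟨T', hT', hWT'⟩ := SylIn.exists_le hW hWX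
  refine ⟨T' ⊓ L a i, ⟨inf_le_right, hT'.two.to_le inf_le_left, ?_⟩, ?_, ⟨hWT' hgW, h.gm a i⟩,
    inf_le_inf_right _ (hTW.trans hWT')⟩
  · intro Q hQ hQ2
    obtain ⟨c, hc, hcQ⟩ := hT'.conj (hQ.trans hLX) hQ2
    rw [← card_cj c Q]
    refine Nat.card_le_card_of_injective _ (Subgroup.inclusion_injective ?_)
    intro x hx
    rw [mem_cj] at hx
    have e : c * (c⁻¹ * x * c) * c⁻¹ = x := by group
    refine ⟨by rw [← e]; exact hcQ _ hx, ?_⟩
    rw [← e]
    exact conj_mem_of_cj (hXn c hc) (hQ hx)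
  · intro t ht
    have h1 : cj t T' = T' := cj_eq_of_mem (hWT' (hTW ht))
    have h2 := h.nrm t ht a i
    ext x
    rw [mem_cj, Subgroup.mem_inf, Subgroup.mem_inf, ← mem_cj, ← mem_cj, h1, h2]

/-- `g y g⁻¹ = y` for `y = p e` with `⁅g, e⁆ = p²` -/
theorem nonelem_aux (h : BD L T g) {p e : G} (hp : p ∈ T) (hpL : p ∈ L a i)
    (hge : ⁅g a i, e⁆ = p * p) : g a i * (p * e) = (p * e) * g a i := by
  have h1 : g a i * p * (g a i)⁻¹ = p⁻¹ := h.g_inv a i hp hpL
  have h2 : g a i * e * (g a i)⁻¹ = (p * p) * e := by rw [conj_eq_comm_mul, hge]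
  have h3 : g a i * (p * e) * (g a i)⁻¹ = p * e := by
    calc g a i * (p * e) * (g a i)⁻¹ = (g a i * p * (g a i)⁻¹) * (g a i * e * (g a i)⁻¹) := by group
      _ = _ := by rw [h1, h2]; group
  exact mul_inv_eq_iff_eq_mul.mp h3

/-- **(5)**: `P` is elementary abelian if `|P| > 2` -/
theorem elem (h : BD L T g) (h3 : 2 < Nat.card ↥(T ⊓ L a i)) : ∀ x ∈ T, x ∈ L a i → x * x = 1 := by
  by_contra hcon
  push Not at hcon
  obtain ⟨x0, hx0, hx0L, hx02⟩ := hcon
  obtain ⟨b, hab⟩ := exists_ne a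
  obtain ⟨n0, hn2, hn1⟩ := exists_pow_inv h.two (mul_mem hx0 hx0) hx02
  set c := g a i with hc
  -- `p` of order 4, `z = p²`
  obtain ⟨p, hp, hpL, hp1, hp2⟩ : ∃ p ∈ T, p ∈ L a i ∧ p * p ≠ 1 ∧ (p * p) * (p * p) = 1 := by
    refine ⟨x0 ^ n0, pow_mem hx0 _, pow_mem hx0L _, ?_, ?_⟩
    · rw [← (Commute.refl x0).mul_pow]; exact hn1
    · rw [← (Commute.refl x0).mul_pow]; exact hn2
  obtain ⟨z, hz⟩ : ∃ z, z = p * p := ⟨_, rfl⟩
  have hzT : z ∈ T := by rw [hz]; exact mul_mem hp hp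
  have hzL : z ∈ L a i := by rw [hz]; exact mul_mem hpL hpL
  have hz1 : z ≠ 1 := by rw [hz]; exact hp1
  have hz2 : z * z = 1 := by rw [hz]; exact hp2
  obtain ⟨e, he, heL, hez⟩ := h.cm_surj hab i i hzT hzL
  have he2 : e * e = 1 := by
    refine (h.cm_sq hab (i := i) he heL).mp ?_
    rw [hez]; exact hz2
  have hpe : p * e = e * p := h.cT hp hpL he heL
  obtain ⟨y, hy⟩ : ∃ y, y = p * e := ⟨_, rfl⟩
  have hyT : y ∈ T := by rw [hy]; exact mul_mem hp he
  have hyy : y * y = z := by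
    calc y * y = p * (e * p) * e := by rw [hy]; group
      _ = p * (p * e) * e := by rw [hpe]
      _ = (p * p) * (e * e) := by group
      _ = z := by rw [he2, mul_one, hz]
  have hyg : c * y = y * c := by rw [hy]; exact h.nonelem_aux hp hpL (hez.trans hz)
  have hyP : ∀ x ∈ T, x ∈ L a i → x * y = y * x := by
    intro x hx hxL
    have h1 : x * p = p * x := h.cT hx hxL hp hpL
    have h2 : x * e = e * x := h.cT hx hxL he heL
    rw [hy, ← mul_assoc, h1, mul_assoc, h2, mul_assoc]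
  obtain ⟨R, hR, hRT, hgR, hPR⟩ := h.exists_R a i
  have hgrow := h.grow h3 hR.two hR.le hRT hgR
  have hRcase : ∀ x ∈ R, (x ∈ T ∧ x ∈ L a i) ∨ (c⁻¹ * x ∈ T ∧ c⁻¹ * x ∈ L a i) := by
    intro x hx
    rcases hgrow x hx with h1 | h1
    · exact Or.inl ⟨h1, hR.le hx⟩
    · exact Or.inr ⟨h1, mul_mem (inv_mem (h.gm a i)) (hR.le hx)⟩
  -- whatever commutes with `c` and `P` commutes with `R`
  have hcR : ∀ w : G, c * w = w * c → (∀ x ∈ T, x ∈ L a i → x * w = w * x) → ∀ x ∈ R, x * w = w * x := by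
    intro w h1 h2 x hx
    rcases hRcase x hx with h4 | h4
    · exact h2 x h4.1 h4.2
    · have h5 := h2 _ h4.1 h4.2
      calc x * w = c * ((c⁻¹ * x) * w) := by group
        _ = c * (w * (c⁻¹ * x)) := by rw [h5]
        _ = (c * w) * (c⁻¹ * x) := by group
        _ = (w * c) * (c⁻¹ * x) := by rw [h1]
        _ = _ := by group
  have hyR : ∀ x ∈ R, x * y = y * x := hcR y hyg hyP
  -- involutions of `P` are central
  have hinvR : ∀ w ∈ T, w ∈ L a i → w * w = 1 → ∀ x ∈ R, x * w = w * x := by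
    intro w hw hwL hw2
    refine hcR w ?_ (fun x hx hxL => h.cT hx hxL hw hwL)
    have h1 := h.g_inv a i hw hwL
    rw [inv_of_sq hw2] at h1
    exact mul_inv_eq_iff_eq_mul.mp h1
  have hyK : cj y (L a i) = L a i := h.nrm y hyT a i
  have hyRcj : cj y R = R := hRT y hyT
  let X := mulSub (L a i) (Subgroup.zpowers y) (cj_zpowers hyK)
  let S := mulSub R (Subgroup.zpowers y) (cj_zpowers hyRcj)
  have hKX : L a i ≤ X := le_mulSub_left
  have hyX : y ∈ X := le_mulSub_right (Subgroup.mem_zpowers y)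
  have hRS : R ≤ S := le_mulSub_left
  have hyS : y ∈ S := le_mulSub_right (Subgroup.mem_zpowers y)
  have hyzS : Subgroup.zpowers y ≤ S := le_mulSub_right
  have hS2 : IsPGroup 2 S := isPGroup_mulSub hR.two (isPGroup_zpowers h.two hyT)
  have hSX : S ≤ X := mulSub_le (hR.le.trans hKX) (by rw [Subgroup.zpowers_le]; exact hyX)
  have hinf : ∀ Q : Subgroup G, IsPGroup 2 Q → R ≤ Q → ∀ x ∈ Q, x ∈ L a i → x ∈ R := by
    intro Q hQ hRQ x hx hxL
    have := hR.eq_of_le (le_inf hRQ hR.le) inf_le_right (hQ.to_le (inf_le_left : Q ⊓ L a i ≤ Q))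
    rw [← this]
    exact ⟨hx, hxL⟩
  have hSyl : SylIn X S := by
    obtain ⟨S', hS', hSS'⟩ := SylIn.exists_le hS2 hSX
    have h1 : S' ≤ S := by
      intro s hs
      obtain ⟨κ, hκ, w, hw, e1⟩ := hS'.le hs
      have h2 : κ ∈ S' := by
        have : κ = s * w⁻¹ := by rw [e1]; group
        rw [this]
        exact mul_mem hs (inv_mem (hSS' (hyzS hw)))
      rw [e1]
      exact mul_mem (hRS (hinf S' hS'.two (hRS.trans hSS') κ h2 hκ)) (hyzS hw)
    have h2 : S = S' := le_antisymm hSS' h1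
    rw [h2]; exact hS'
  -- commutators with `y`
  have hyc : ∀ m ∈ X, y⁻¹ * (m⁻¹ * y * m) ∈ L a i := by
    rintro _ ⟨κ, hκ, w, hw, rfl⟩
    have hwy : w * y = y * w := by
      obtain ⟨n, rfl⟩ := Subgroup.mem_zpowers_iff.mp hw
      exact ((Commute.refl y).zpow_left n).eq
    have h1 : y⁻¹ * ((κ * w)⁻¹ * y * (κ * w)) = w⁻¹ * ((y⁻¹ * κ⁻¹ * y) * κ) * w := by
      calc y⁻¹ * ((κ * w)⁻¹ * y * (κ * w)) = (w * y)⁻¹ * κ⁻¹ * y * κ * w := by group
        _ = (y * w)⁻¹ * κ⁻¹ * y * κ * w := by rw [hwy]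
        _ = _ := by group
    rw [h1]
    have h2 : y⁻¹ * κ⁻¹ * y ∈ L a i := by
      have := conj_mem_of_cj (cj_inv_eq hyK) (inv_mem hκ)
      rwa [inv_inv] at this
    have h4 := conj_mem_of_cj (cj_inv_eq (cj_zpowers hyK w hw)) (mul_mem h2 hκ)
    rwa [inv_inv] at h4
  have hyScomm : ∀ s ∈ S, y * s = s * y := by
    rintro _ ⟨r, hr, w, hw, rfl⟩
    have hwy : w * y = y * w := by
      obtain ⟨n, rfl⟩ := Subgroup.mem_zpowers_iff.mp hw
      exact ((Commute.refl y).zpow_left n).eq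
    rw [← mul_assoc, ← hyR r hr, mul_assoc, ← hwy, mul_assoc]
  have hinvS : ∀ w ∈ T, w ∈ L a i → w * w = 1 → ∀ s ∈ S, w * s = s * w := by
    rintro w hw hwL hw2 _ ⟨r, hr, v, hv, rfl⟩
    have h1 := hinvR w hw hwL hw2 r hr
    have h2 : w * v = v * w := by
      obtain ⟨n, rfl⟩ := Subgroup.mem_zpowers_iff.mp hv
      have : Commute w y := hyP w hw hwL
      exact (this.zpow_right n).eq
    rw [← mul_assoc, ← h1, mul_assoc, h2, mul_assoc]
  have hzS : ∀ s ∈ S, z * s = s * z := hinvS z hzT hzL hz2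
  have hcc : c * c ∈ T := h.gs a i
  have hccL : c * c ∈ L a i := mul_mem (h.gm a i) (h.gm a i)
  -- squares of elements of `R`
  have hsqR : ∀ v ∈ R, v * v ∈ T := by
    intro v hv
    rcases hRcase v hv with h1 | h1
    · exact mul_mem h1.1 h1.1
    · set q := c⁻¹ * v with hq
      have e1 : v = c * q := by rw [hq]; group
      have h2 : c * q * c⁻¹ = q⁻¹ := h.g_inv a i h1.1 h1.2
      have h4 : v * v = q⁻¹ * (c * c) * q := by
        rw [← h2, e1]; group
      rw [h4]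
      exact mul_mem (mul_mem (inv_mem h1.1) hcc) h1.1
  -- `z` is isolated
  have hiso : ∀ m ∈ X, m * z * m⁻¹ ∈ R → m * z * m⁻¹ = z := by
    intro m hm hw
    set w := m * z * m⁻¹ with hwdef
    set C := X ⊓ Subgroup.centralizer {w} with hC
    have h1 : cj m S ≤ C := by
      refine le_inf (hSyl.cj hm).le ?_
      intro s hs
      rw [mem_cj] at hs
      rw [Subgroup.mem_centralizer_singleton_iff, hwdef]
      have h4 := hzS _ hs
      calc s * (m * z * m⁻¹) = m * ((m⁻¹ * s * m) * z) * m⁻¹ := by group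
        _ = m * (z * (m⁻¹ * s * m)) * m⁻¹ := by rw [h4]
        _ = _ := by group
    have h2 : SylIn C (cj m S) := (hSyl.cj hm).mono inf_le_left h1
    have hyC : y ∈ C := by
      rw [hC, Subgroup.mem_inf, Subgroup.mem_centralizer_singleton_iff]
      exact ⟨hyX, (hyR w hw).symm⟩
    obtain ⟨d, hd, hdy⟩ := h2.conj (Q := Subgroup.zpowers y) (by rw [Subgroup.zpowers_le]; exact hyC)
      (isPGroup_zpowers h.two hyT)
    have h4 := hdy y (Subgroup.mem_zpowers y)
    rw [mem_cj] at h4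
    set m' := d⁻¹ * m with hm'
    have hm'X : m' ∈ X := mul_mem (inv_mem hd.1) hm
    have hdw := Subgroup.mem_centralizer_singleton_iff.mp hd.2
    have hm'z : m' * z * m'⁻¹ = w := by
      calc m' * z * m'⁻¹ = d⁻¹ * (m * z * m⁻¹) * d := by rw [hm']; group
        _ = d⁻¹ * (w * d) := by rw [← hwdef]; group
        _ = d⁻¹ * (d * w) := by rw [hdw]
        _ = w := by group
    set y1 := m'⁻¹ * y * m' with hy1
    have hy1S : y1 ∈ S := by
      have : m⁻¹ * (d * y * d⁻¹) * m = y1 := by rw [hy1, hm']; group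
      rwa [this] at h4
    set v := y⁻¹ * y1 with hv
    have hvL : v ∈ L a i := hyc m' hm'X
    have hvR : v ∈ R := hinf S hS2 hRS v (mul_mem (inv_mem hyS) hy1S) hvL
    set w' := m'⁻¹ * z * m' with hw'
    have e1 : w' = z * (v * v) := by
      have h5 : y1 = y * v := by rw [hv]; group
      have h6 := hyR v hvR
      calc w' = y1 * y1 := by rw [hw', ← hyy, hy1]; group
        _ = y * (v * y) * v := by rw [h5]; group
        _ = y * (y * v) * v := by rw [h6]
        _ = (y * y) * (v * v) := by group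
        _ = _ := by rw [hyy]
    have hw'T : w' ∈ T := by rw [e1]; exact mul_mem hzT (hsqR v hvR)
    have hw'L : w' ∈ L a i := by rw [e1]; exact mul_mem hzL (mul_mem hvL hvL)
    have hw'2 : w' * w' = 1 := by
      calc w' * w' = m'⁻¹ * (z * z) * m' := by rw [hw']; group
        _ = 1 := by rw [hz2]; group
    obtain ⟨n, hn, hnS, hnz⟩ := hSyl.burnside (m := m'⁻¹) hzS (hinvS w' hw'T hw'L hw'2) (inv_mem hm'X)
      (by rw [inv_inv])
    set y2 := n * y * n⁻¹ with hy2
    have hy2S : y2 ∈ S := conj_mem_of_cj hnS hyS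
    have hy2c : ∀ s ∈ S, y2 * s = s * y2 := by
      intro s hs
      have h5 : n⁻¹ * s * n ∈ S := by
        have := conj_mem_of_cj (cj_inv_eq hnS) hs
        rwa [inv_inv] at this
      have h6 := hyScomm _ h5
      calc y2 * s = n * (y * (n⁻¹ * s * n)) * n⁻¹ := by rw [hy2]; group
        _ = n * ((n⁻¹ * s * n) * y) * n⁻¹ := by rw [h6]
        _ = _ := by rw [hy2]; group
    set u := y⁻¹ * y2 with hu
    have huL : u ∈ L a i := by
      have := hyc n⁻¹ (inv_mem hn)
      rwa [inv_inv] at this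
    have huR : u ∈ R := hinf S hS2 hRS u (mul_mem (inv_mem hyS) hy2S) huL
    have huc : ∀ s ∈ S, u * s = s * u := by
      intro s hs
      have h5 : Commute y s := hyScomm s hs
      have h6 : Commute y2 s := hy2c s hs
      exact (h5.inv_left.mul_left h6).eq
    have hu2 : u * u = 1 := by
      rcases hRcase u huR with h5 | h5
      · have h6 := h.g_inv a i h5.1 h5.2
        have h7 := huc c (hRS hgR)
        have h8 : c * u * c⁻¹ = u := by rw [← h7]; group
        rw [← hc, h8] at h6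
        nth_rw 1 [h6]
        exact inv_mul_cancel u
      · exfalso
        apply hp1
        set q := c⁻¹ * u with hq
        have e2 : u = c * q := by rw [hq]; group
        have h6 := huc p (hRS (hPR ⟨hp, hpL⟩))
        have h7 : q * p = p * q := h.cT h5.1 h5.2 hp hpL
        have h8 : c * p * c⁻¹ = p⁻¹ := h.g_inv a i hp hpL
        have h9 : p = p⁻¹ := by
          rw [← h8]
          calc p = (p * u) * u⁻¹ := by group
            _ = (u * p) * u⁻¹ := by rw [h6]
            _ = c * (q * p) * q⁻¹ * c⁻¹ := by rw [e2]; group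
            _ = c * (p * q) * q⁻¹ * c⁻¹ := by rw [h7]
            _ = _ := by group
        nth_rw 1 [h9]
        exact inv_mul_cancel p
    have h5 : w' = z := by
      have h6 := hyR u huR
      have h7 : y2 = y * u := by rw [hu]; group
      calc w' = n * (y * y) * n⁻¹ := by rw [hyy, hnz]
        _ = y2 * y2 := by rw [hy2]; group
        _ = y * (u * y) * u := by rw [h7]; group
        _ = y * (y * u) * u := by rw [h6]
        _ = (y * y) * (u * u) := by group
        _ = z := by rw [hyy, hu2, mul_one]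
    rw [← hm'z]
    have h6 : m'⁻¹ * z * m' = z := h5
    calc m' * z * m'⁻¹ = m' * (m'⁻¹ * z * m') * m'⁻¹ := by rw [h6]
      _ = z := by group
  -- the Z*-theorem
  obtain ⟨l, hl, hlz, hlc⟩ := h.zst a i z hzL hz2 hz1
  set w0 := l * z * l⁻¹ with hw0
  have hRC : R ≤ L a i ⊓ Subgroup.centralizer {z} := by
    refine le_inf hR.le ?_
    intro s hs
    rw [Subgroup.mem_centralizer_singleton_iff]
    exact (hzS s (hRS hs)).symm
  have hRCs : SylIn (L a i ⊓ Subgroup.centralizer {z}) R := hR.mono inf_le_left hRC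
  have hw02 : w0 * w0 = 1 := by
    calc w0 * w0 = l * (z * z) * l⁻¹ := by rw [hw0]; group
      _ = 1 := by rw [hz2]; group
  have hw0p : IsPGroup 2 (Subgroup.zpowers w0) := by
    have := isPGroup_cj (isPGroup_zpowers h.two hzT) l
    refine this.to_le ?_
    rw [Subgroup.zpowers_le, mem_cj, hw0]
    have : l⁻¹ * (l * z * l⁻¹) * l = z := by group
    rw [this]
    exact Subgroup.mem_zpowers z
  obtain ⟨d, hd, hdw⟩ := hRCs.conj (Q := Subgroup.zpowers w0) (by
    rw [Subgroup.zpowers_le, Subgroup.mem_inf, Subgroup.mem_centralizer_singleton_iff]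
    exact ⟨mul_mem (mul_mem hl hzL) (inv_mem hl), hlc.symm⟩) hw0p
  have h4 := hdw w0 (Subgroup.mem_zpowers w0)
  have h5 : d * l * z * (d * l)⁻¹ = d * w0 * d⁻¹ := by rw [hw0]; group
  rw [← h5] at h4
  have h6 := hiso (d * l) (hKX (mul_mem hd.1 hl)) h4
  rw [h5] at h6
  apply hlz
  have h7 := Subgroup.mem_centralizer_singleton_iff.mp hd.2
  calc w0 = d⁻¹ * (d * w0 * d⁻¹) * d := by group
    _ = d⁻¹ * (z * d) := by rw [h6]; group
    _ = d⁻¹ * (d * z) := by rw [h7]
    _ = z := by group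

end BD

end Cfsg.Agent.OddHalf.D3.BTwo
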